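import Cfsg.Agent.H13.EA.Norm
import Cfsg.Agent.H54.ChevBaseChange
import Cfsg.Agent.H54.ChevGroup

/-!
Diagonal and field automorphisms, and the decomposition of an automorphism.
-/

set_option autoImplicit false
set_option linter.unusedSectionVars false

open Cfsg.Lie
open scoped MatrixGroups

namespace H13
namespace EA

variable {D : ChevalleyDatum} (C : H54.Ctx D) {F : Type*} [Field F]

/-- The root character with given values on the fundamental roots. -/
def chiOf (cc : Fin D.rank → Fˣ) (s : ℕ) : Fˣ :=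
  ∏ j ∈ Finset.range D.rank, (if h : j < D.rank then cc ⟨j, h⟩ else 1) ^ C.T.co s j

theorem chiOf_isChar (cc : Fin D.rank → Fˣ) : H52.IsChar D (chiOf C cc) := C.hC.isChar_prod _

theorem chiOf_simple (cc : Fin D.rank → Fˣ) (i : Fin D.rank) :
    chiOf C cc (D.simple i.val) = cc i ∧ chiOf C cc (D.neg (D.simple i.val)) = (cc i)⁻¹ := by
  have h1 : chiOf C cc (D.simple i.val) = cc i := by
    rw [chiOf, Finset.prod_eq_single i.val]
    · rw [dif_pos i.isLt, C.hC.co_simple i.isLt i.isLt, if_pos rfl, zpow_one]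
    · intro j hj hne
      rw [C.hC.co_simple i.isLt (Finset.mem_range.1 hj), if_neg hne, zpow_zero]
    · intro h; exact absurd (Finset.mem_range.2 i.isLt) h
  exact ⟨h1, by rw [(chiOf_isChar C cc).map_neg _ (C.hC.simple_lt i.isLt), h1]⟩

theorem isRootCharacter_of_isChar {χ : ℕ → Fˣ} (hχ : H52.IsChar D χ) : D.IsRootCharacter χ := by
  refine ⟨fun r hr => hχ.map_neg r hr, fun r s k hr _ hk => ?_⟩
  obtain ⟨e, he, rfl⟩ := H53.chainRoot_some hk
  simpa using hχ.map_chain r hr s 0 e he

include C in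
theorem x_out {r : ℕ} (hr : ¬ r < D.nroots) (t : F) : H52.rt D r t = 1 :=
  Units.ext (by rw [C.hC.coe_rt, H52.x_of_le r (not_lt.1 hr)]; rfl)

include C in
theorem map_group_dgR {χ : ℕ → Fˣ} (hχ : H52.IsChar D χ) :
    (D.group F).map (MulAut.conj (H52.dgR D χ)).toMonoidHom = D.group F := by
  have key : ∀ (r : Fin D.nroots) (t : F), H52.dgR D χ * H52.rt D r.val t * (H52.dgR D χ)⁻¹ =
      H52.rt D r.val ((χ r.val : F) * t) := fun r t => C.hC.dgR_conj_rt hχ r.isLt t
  apply le_antisymm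
  · rw [ChevalleyDatum.group, MonoidHom.map_closure, Subgroup.closure_le]
    rintro _ ⟨g, ⟨r, t, hg⟩, rfl⟩
    have : g = H52.rt D r.val t :=
      C.hC.eq_rt (by rw [ChevalleyDatum.x, dif_pos r.isLt]; exact hg)
    subst this
    simp only [MulEquiv.coe_toMonoidHom, MulAut.conj_apply, key, SetLike.mem_coe]
    exact C.rt_mem_group _ _
  · intro g hg
    refine Subgroup.closure_induction (p := fun g _ => g ∈ (D.group F).map
      (MulAut.conj (H52.dgR D χ)).toMonoidHom) ?_ (one_mem _) (fun _ _ _ _ => mul_mem)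
      (fun _ _ => inv_mem) hg
    rintro g ⟨r, t, hg⟩
    have : g = H52.rt D r.val t :=
      C.hC.eq_rt (by rw [ChevalleyDatum.x, dif_pos r.isLt]; exact hg)
    subst this
    refine ⟨H52.rt D r.val ((χ r.val : F)⁻¹ * t), C.rt_mem_group _ _, ?_⟩
    simp only [MulEquiv.coe_toMonoidHom, MulAut.conj_apply, key]
    rw [← mul_assoc, mul_inv_cancel₀ (χ r.val).ne_zero, one_mul]

/-- The diagonal automorphism of given values on the fundamental roots. -/
noncomputable def diagAut (cc : Fin D.rank → Fˣ) : ↥(D.group F) ≃* ↥(D.group F) :=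
  ((D.group F).equivMapOfInjective (MulAut.conj (H52.dgR D (chiOf C cc))).toMonoidHom
    (MulAut.conj (H52.dgR D (chiOf C cc))).injective).trans
    (MulEquiv.subgroupCongr (map_group_dgR C (chiOf_isChar C cc)))

theorem coe_diagAut (cc : Fin D.rank → Fˣ) (g : ↥(D.group F)) :
    (diagAut C cc g : GL D.Idx F) =
      H52.dgR D (chiOf C cc) * (g : GL D.Idx F) * (H52.dgR D (chiOf C cc))⁻¹ := rfl

theorem diagAut_el (cc : Fin D.rank → Fˣ) {r : ℕ} (hr : r < D.nroots) (t : F) :
    diagAut C cc (el C r t) = el C r ((chiOf C cc r : F) * t) :=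
  Subtype.ext (by rw [coe_diagAut, coe_el, coe_el]; exact C.hC.dgR_conj_rt (chiOf_isChar C cc) hr t)

theorem diagAut_simple (cc : Fin D.rank → Fˣ) (i : Fin D.rank) (t : F) :
    diagAut C cc (el C (D.simple i.val) t) = el C (D.simple i.val) ((cc i : F) * t) ∧
      diagAut C cc (el C (D.neg (D.simple i.val)) t) =
        el C (D.neg (D.simple i.val)) ((cc i : F)⁻¹ * t) := by
  constructor
  · rw [diagAut_el C cc (C.hC.simple_lt i.isLt), (chiOf_simple C cc i).1]
  · rw [diagAut_el C cc (C.hC.neg_lt (C.hC.simple_lt i.isLt)), (chiOf_simple C cc i).2,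
      Units.val_inv_eq_inv_val]

theorem isDiagonalAut_diagAut (cc : Fin D.rank → Fˣ) : D.IsDiagonalAut (diagAut (F := F) C cc) := by
  refine ⟨chiOf C cc, isRootCharacter_of_isChar (chiOf_isChar C cc), fun g => ?_⟩
  rw [coe_diagAut]
  simp only [Units.val_mul]
  congr 1
  · congr 1
    exact H52.coe_dgR _
  · apply Units.inv_eq_of_mul_eq_one_right
    have h := H54.charDiag_mul_charDiag_inv (D := D) (chiOf C cc)
    rw [H52.coe_dgR]
    exact h

include C in
theorem glF_map_group (σ : F ≃+* F) :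
    (D.group F).map (H54.glF D σ.toRingHom) = D.group F := by
  apply le_antisymm
  · rw [ChevalleyDatum.group, MonoidHom.map_closure, Subgroup.closure_le]
    rintro _ ⟨g, ⟨r, t, hg⟩, rfl⟩
    have : g = H52.rt D r.val t :=
      C.hC.eq_rt (by rw [ChevalleyDatum.x, dif_pos r.isLt]; exact hg)
    subst this
    rw [SetLike.mem_coe, C.glF_rt]
    exact C.rt_mem_group _ _
  · intro g hg
    refine Subgroup.closure_induction (p := fun g _ => g ∈ (D.group F).map (H54.glF D σ.toRingHom))
      ?_ (one_mem _) (fun _ _ _ _ => mul_mem) (fun _ _ => inv_mem) hg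
    rintro g ⟨r, t, hg⟩
    have : g = H52.rt D r.val t :=
      C.hC.eq_rt (by rw [ChevalleyDatum.x, dif_pos r.isLt]; exact hg)
    subst this
    exact ⟨H52.rt D r.val (σ.symm t), C.rt_mem_group _ _, by rw [C.glF_rt]; simp⟩

/-- The field automorphism of `σ`. -/
noncomputable def fieldAut (σ : F ≃+* F) : ↥(D.group F) ≃* ↥(D.group F) :=
  ((D.group F).equivMapOfInjective (H54.glF D σ.toRingHom) (H54.glF_injective σ.toRingHom)).trans
    (MulEquiv.subgroupCongr (glF_map_group C σ))

theorem coe_fieldAut (σ : F ≃+* F) (g : ↥(D.group F)) :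
    (fieldAut C σ g : GL D.Idx F) = H54.glF D σ.toRingHom (g : GL D.Idx F) := rfl

theorem fieldAut_el (σ : F ≃+* F) (r : ℕ) (t : F) :
    fieldAut C σ (el C r t) = el C r (σ t) :=
  Subtype.ext (by rw [coe_fieldAut, coe_el, C.glF_rt]; rfl)

theorem eq_el {g : ↥(D.group F)} {r : ℕ} {t : F}
    (h : ((g : GL D.Idx F) : Matrix D.Idx D.Idx F) = D.x F r t) : g = el C r t :=
  Subtype.ext (C.hC.eq_rt h)

theorem coe_el_mat (r : ℕ) (t : F) :
    ((el C r t : GL D.Idx F) : Matrix D.Idx D.Idx F) = D.x F r t := C.hC.coe_rt r t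

theorem isFieldAut_fieldAut (σ : F ≃+* F) : D.IsFieldAut (fieldAut (F := F) C σ) := by
  refine ⟨σ, fun g r t _ hg => ?_⟩
  rw [eq_el C hg, fieldAut_el, coe_el_mat]

/-- `θ` acts on the fundamental root elements with the parameters `π`, `c`, `σ`. -/
def HasParam (θ : ↥(D.group F) ≃* ↥(D.group F)) (π : Equiv.Perm (Fin D.rank))
    (c : Fin D.rank → Fˣ) (σ : F ≃+* F) : Prop :=
  ∀ (i : Fin D.rank) (t : F),
    θ (el C (D.simple i.val) t) = el C (D.simple (π i).val)
        ((c i : F) * σ t ^ D.graphExp (ringChar F) i.val (π i).val) ∧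
    θ (el C (D.neg (D.simple i.val)) t) = el C (D.neg (D.simple (π i).val))
        ((c i : F)⁻¹ * σ t ^ D.graphExp (ringChar F) i.val (π i).val)

theorem ext_el {θ θ' : ↥(D.group F) ≃* ↥(D.group F)}
    (h : ∀ (i : Fin D.rank) (t : F), θ (el C (D.simple i.val) t) = θ' (el C (D.simple i.val) t) ∧
      θ (el C (D.neg (D.simple i.val)) t) = θ' (el C (D.neg (D.simple i.val)) t)) : θ = θ' := by
  have h' : θ.toMonoidHom = θ'.toMonoidHom :=
    H54.hom_ext_simple C.hC fun i hi t => h ⟨i, hi⟩ t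
  exact MulEquiv.ext fun g => DFunLike.congr_fun h' g

theorem HasParam.unique {θ θ' : ↥(D.group F) ≃* ↥(D.group F)} {π : Equiv.Perm (Fin D.rank)}
    {c : Fin D.rank → Fˣ} {σ : F ≃+* F} (h : HasParam C θ π c σ) (h' : HasParam C θ' π c σ) :
    θ = θ' :=
  ext_el C fun i t => ⟨by rw [(h i t).1, (h' i t).1], by rw [(h i t).2, (h' i t).2]⟩

/-- Adjusting the constants and the field automorphism. -/
theorem HasParam.adjust {θ : ↥(D.group F) ≃* ↥(D.group F)} {π : Equiv.Perm (Fin D.rank)}
    {c : Fin D.rank → Fˣ} {σ : F ≃+* F} (h : HasParam C θ π c σ) (d : Fin D.rank → Fˣ)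
    (ρ : F ≃+* F) :
    HasParam C ((fieldAut C ρ).trans (θ.trans (diagAut C fun j => d (π.symm j)))) π
      (fun i => d i * c i) (ρ.trans σ) := by
  intro i t
  refine ⟨?_, ?_⟩
  · rw [MulEquiv.trans_apply, fieldAut_el, MulEquiv.trans_apply, (h i _).1,
      (diagAut_simple C _ (π i) _).1, Equiv.symm_apply_apply]
    simp [mul_assoc]
  · rw [MulEquiv.trans_apply, fieldAut_el, MulEquiv.trans_apply, (h i _).2,
      (diagAut_simple C _ (π i) _).2, Equiv.symm_apply_apply]
    simp [mul_assoc, mul_left_comm, mul_comm]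

/-- A parametrised automorphism with trivial constants and field part is a graph automorphism. -/
theorem isGraphAut_of_param {θ : ↥(D.group F) ≃* ↥(D.group F)} {π : Equiv.Perm (Fin D.rank)}
    (hπ : D.IsDiagramSymmetry π) (h : HasParam C θ π (fun _ => 1) (RingEquiv.refl F)) :
    D.IsGraphAut θ := by
  refine ⟨π, hπ, fun g i t => ⟨fun hg => ?_, fun hg => ?_⟩⟩
  · rw [eq_el C hg, (h i t).1, coe_el_mat]; simp
  · rw [eq_el C hg, (h i t).2, coe_el_mat]; simp

theorem exists_fix [Finite F] (p : ℕ) [Fact p.Prime] [CharP F p]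
    (θ : ↥(D.group F) ≃* ↥(D.group F)) :
    ∃ x : ↥(D.group F),
      (Upos C F).map (θ.trans (MulAut.conj x⁻¹)).toMonoidHom = Upos C F ∧
      (Uneg C F).map (θ.trans (MulAut.conj x⁻¹)).toMonoidHom = Uneg C F := by
  classical
  have : Fintype F := Fintype.ofFinite F
  obtain ⟨P, hP⟩ := C.exists_sylow (F := F) p
  obtain ⟨a, ha⟩ := exists_conj_sylow P θ
  rw [hP] at ha
  obtain ⟨x, hx1, hx2⟩ := Frame.exists_norm (frame_hyp (F := F) C) θ (a := a) ha
  refine ⟨x, ?_, ?_⟩
  · have h := congrArg (Subgroup.map (MulAut.conj x⁻¹).toMonoidHom) hx1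
    rw [Frame.map_conj_conj, inv_mul_cancel, Frame.map_conj_one, Subgroup.map_map] at h
    exact h
  · have h := congrArg (Subgroup.map (MulAut.conj x⁻¹).toMonoidHom) hx2
    rw [Frame.map_conj_conj, inv_mul_cancel, Frame.map_conj_one, Subgroup.map_map] at h
    exact h

include C in
/-- Steinberg: every automorphism is inner times diagonal times graph times field. -/
theorem decomp [Finite F] {m : ℕ} (hD : DiagFacts D m) (θ : ↥(D.group F) ≃* ↥(D.group F)) :
    ∃ (x : ↥(D.group F)) (d g f : ↥(D.group F) ≃* ↥(D.group F)),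
      D.IsDiagonalAut d ∧ D.IsGraphAut g ∧ D.IsFieldAut f ∧
        ∀ y : ↥(D.group F), θ y = x * d (g (f y)) * x⁻¹ := by
  have : Fact (ringChar F).Prime := ⟨CharP.prime_ringChar F⟩
  have : CharP F (ringChar F) := ringChar.charP F
  obtain ⟨x, hU, hV⟩ := exists_fix C (ringChar F) θ
  set θ₁ := θ.trans (MulAut.conj x⁻¹) with hθ₁
  obtain ⟨π, c, σ, hperm, -, hpar⟩ := normal_form C hD θ₁ hU hV
  set d := diagAut C (fun j => c (π.symm j)) with hd
  set dd : Fin D.rank → Fˣ := fun i => (c i)⁻¹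
  set g := (fieldAut C σ.symm).trans (θ₁.trans (diagAut C fun j => dd (π.symm j))) with hg
  have hgp : HasParam C g π (fun _ => 1) (RingEquiv.refl F) := by
    have h := HasParam.adjust C (show HasParam C θ₁ π c σ from hpar) dd σ.symm
    rw [← hg] at h
    simpa [dd] using h
  refine ⟨x, d, g, fieldAut C σ, isDiagonalAut_diagAut C _, isGraphAut_of_param C hperm.1 hgp,
    isFieldAut_fieldAut C σ, fun y => ?_⟩
  have hθ : θ₁ = (fieldAut C σ).trans (g.trans d) := by
    refine HasParam.unique C (show HasParam C θ₁ π c σ from hpar) ?_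
    have h := HasParam.adjust C hgp c σ
    intro i t; simpa [hd] using h i t
  have h2 : θ₁ y = d (g (fieldAut C σ y)) := by rw [hθ]; rfl
  rw [← h2, hθ₁, MulEquiv.trans_apply, MulAut.conj_apply]
  group

end EA
end H13
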