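import Cfsg.Agent.H53.GraphTables

/-! A symmetry of order two of the diagram of D₄ on the Chevalley basis. -/

set_option autoImplicit false

namespace H13
namespace EA

open Cfsg.Lie

/-- Symmetry [2, 1, 0, 3] of D4. -/
def d4Trans : H53.BasisSym chevD4 where
  p :=
    ({ toFun := fun i : Fin 4 => Fin.ofNat 4 (([2, 1, 0, 3] : List ℕ).getD i.val 0)
       invFun := fun i : Fin 4 => Fin.ofNat 4 (([2, 1, 0, 3] : List ℕ).getD i.val 0)
       left_inv := by unfold Function.LeftInverse; decide +kernel
       right_inv := by unfold Function.RightInverse Function.LeftInverse; decide +kernel } : Equiv.Perm (Fin 4))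
  q :=
    ({ toFun := fun i : Fin 24 => Fin.ofNat 24 (([0, 1, 2, 6, 7, 10, 3, 4, 8, 9, 5, 11, 12, 18, 14, 15, 19, 20, 13, 16, 17, 21, 22, 23] : List ℕ).getD i.val 0)
       invFun := fun i : Fin 24 => Fin.ofNat 24 (([0, 1, 2, 6, 7, 10, 3, 4, 8, 9, 5, 11, 12, 18, 14, 15, 19, 20, 13, 16, 17, 21, 22, 23] : List ℕ).getD i.val 0)
       left_inv := by unfold Function.LeftInverse; decide +kernel
       right_inv := by unfold Function.RightInverse Function.LeftInverse; decide +kernel } : Equiv.Perm (Fin 24))
  sgn r := ([1, 1, 1, -1, -1, 1, -1, -1, 1, 1, 1, 1, 1, 1, 1, 1, -1, -1, 1, -1, -1, 1, 1, 1] : List ℤ).getD r.val 1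

set_option backward.isDefEq.respectTransparency false in
theorem d4Trans_valid : d4Trans.Valid := by
  constructor <;> decide +kernel

end EA
end H13
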