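import Cfsg.Agent.H52.Seven
import Cfsg.Prelude.Def_ChevAutomorphisms

/-!
Facts on the Dynkin diagrams of the seven data, checked on the tables.
-/

set_option autoImplicit false
set_option maxRecDepth 4000

open Cfsg.Lie

namespace H13
namespace EA

/-- Zero Cartan integers are symmetric and give commuting root subgroups; each bond has an end with
Cartan integer `-1`. -/
def diagOK (D : ChevalleyDatum) : Bool :=
  (List.range D.rank).all fun i => (List.range D.rank).all fun j => i == j ||
    ((D.cartan i (D.simple j) != 0 || ((D.commTerms (D.simple i) (D.simple j)).isEmpty &&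
        D.cartan j (D.simple i) == 0)) &&
      (D.cartan i (D.simple j) == 0 || D.cartan i (D.simple j) == -1 ||
        D.cartan j (D.simple i) == -1))

/-- The nodes reached from the first one in at most `k` steps. -/
def reach (D : ChevalleyDatum) : ℕ → List ℕ
  | 0 => [0]
  | k + 1 => (List.range D.rank).filter fun j => (reach D k).contains j ||
      (reach D k).any fun i => i != j && D.cartan i (D.simple j) == -1 ||
        i != j && D.cartan j (D.simple i) == -1

/-- The diagram is connected. -/
def connOK (D : ChevalleyDatum) : Bool :=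
  (List.range D.rank).all fun j => (reach D D.rank).contains j

/-- All roots have the same length. -/
def simplyLaced (D : ChevalleyDatum) : Bool :=
  ((List.range D.rank).all fun i => !D.isLong (D.simple i)) &&
    (List.range D.rank).all fun i => (List.range D.rank).all fun j => i == j ||
      (D.cartan i (D.simple j) == 0 || D.cartan i (D.simple j) == -1)

/-- A permutation of the nodes preserving adjacency. -/
def Adj (D : ChevalleyDatum) (π : Equiv.Perm (Fin D.rank)) : Prop :=
  ∀ i j : Fin D.rank, i ≠ j →
    (D.cartan i.val (D.simple j.val) = 0 ↔ D.cartan (π i).val (D.simple (π j).val) = 0)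

/-- The node maps to a longer one. -/
def flag (D : ChevalleyDatum) (i j : ℕ) : Bool := D.isLong (D.simple j) && !D.isLong (D.simple i)

/-- Adjacency preserving permutations are symmetries, with the length behaviour along bonds. -/
def PermOK (D : ChevalleyDatum) (m : ℕ) (π : Equiv.Perm (Fin D.rank)) : Prop :=
  D.IsDiagramSymmetry π ∧ ∀ i j : Fin D.rank, i ≠ j → D.cartan i.val (D.simple j.val) = -1 →
    (D.cartan (π i).val (D.simple (π j).val) = -1 ∧
        flag D i.val (π i).val = flag D j.val (π j).val) ∨
      (D.cartan (π i).val (D.simple (π j).val) = -(m : ℤ) ∧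
        flag D i.val (π i).val = false ∧ flag D j.val (π j).val = true)

/-- The exceptional characteristic. -/
def bondNum (D : ChevalleyDatum) : ℕ :=
  if D.nroots = 12 then 3 else 2

theorem permOK_of_simplyLaced {D : ChevalleyDatum} (m : ℕ) (h : simplyLaced D = true)
    {π : Equiv.Perm (Fin D.rank)} (hπ : Adj D π) : PermOK D m π := by
  simp only [simplyLaced, Bool.and_eq_true, List.all_eq_true, List.mem_range, Bool.or_eq_true,
    beq_iff_eq, Bool.not_eq_true'] at h
  obtain ⟨hl, hc⟩ := h
  have hc' : ∀ i j : Fin D.rank, i ≠ j →
      D.cartan i.val (D.simple j.val) = 0 ∨ D.cartan i.val (D.simple j.val) = -1 := fun i j hij =>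
    (hc i.val i.isLt j.val j.isLt).resolve_left fun e => hij (Fin.ext e)
  have hπc : ∀ i j : Fin D.rank, i ≠ j →
      D.cartan (π i).val (D.simple (π j).val) = D.cartan i.val (D.simple j.val) := by
    intro i j hij
    rcases hc' i j hij with h0 | h1
    · rw [h0, (hπ i j hij).1 h0]
    · rcases hc' (π i) (π j) (π.injective.ne hij) with h0' | h1'
      · rw [(hπ i j hij).2 h0'] at h1; omega
      · rw [h1, h1']
  refine ⟨fun i j hij => ?_, fun i j hij h1 => Or.inl ⟨by rw [hπc i j hij, h1], ?_⟩⟩
  · simp only [ChevalleyDatum.bonds]
    rw [hπc i j hij, hπc j i (Ne.symm hij)]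
  · simp [flag, hl _ i.isLt, hl _ j.isLt, hl _ (π i).isLt, hl _ (π j).isLt]

set_option backward.isDefEq.respectTransparency false in
theorem permOK_G2 : ∀ π : Equiv.Perm (Fin chevG2.rank), Adj chevG2 π → PermOK chevG2 3 π := by
  simp only [Adj, PermOK, ChevalleyDatum.IsDiagramSymmetry, ChevalleyDatum.bonds]
  decide +kernel

set_option backward.isDefEq.respectTransparency false in
theorem permOK_B2 : ∀ π : Equiv.Perm (Fin chevB2.rank), Adj chevB2 π → PermOK chevB2 2 π := by
  simp only [Adj, PermOK, ChevalleyDatum.IsDiagramSymmetry, ChevalleyDatum.bonds]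
  decide +kernel

set_option backward.isDefEq.respectTransparency false in
theorem permOK_F4 : ∀ π : Equiv.Perm (Fin chevF4.rank), Adj chevF4 π → PermOK chevF4 2 π := by
  simp only [Adj, PermOK, ChevalleyDatum.IsDiagramSymmetry, ChevalleyDatum.bonds]
  decide +kernel

/-- The diagram facts of a datum. -/
structure DiagFacts (D : ChevalleyDatum) (m : ℕ) : Prop where
  diag : diagOK D = true
  conn : connOK D = true
  perm : ∀ π : Equiv.Perm (Fin D.rank), Adj D π → PermOK D m π
  m_val : m = 2 ∨ m = 3

theorem diagFacts_of_mem {D : ChevalleyDatum}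
    (hD : D ∈ [chevG2, chevB2, chevD4, chevF4, chevE6, chevE7, chevE8]) :
    DiagFacts D (bondNum D) := by
  simp only [List.mem_cons, List.not_mem_nil, or_false] at hD
  have hm : bondNum D = 2 ∨ bondNum D = 3 := by unfold bondNum; split_ifs <;> simp
  rcases hD with rfl | rfl | rfl | rfl | rfl | rfl | rfl
  · exact ⟨by decide +kernel, by decide +kernel, permOK_G2, hm⟩
  · exact ⟨by decide +kernel, by decide +kernel, permOK_B2, hm⟩
  · exact ⟨by decide +kernel, by decide +kernel,
      fun π h => permOK_of_simplyLaced _ (by decide +kernel) h, hm⟩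
  · exact ⟨by decide +kernel, by decide +kernel, permOK_F4, hm⟩
  · exact ⟨by decide +kernel, by decide +kernel,
      fun π h => permOK_of_simplyLaced _ (by decide +kernel) h, hm⟩
  · exact ⟨by decide +kernel, by decide +kernel,
      fun π h => permOK_of_simplyLaced _ (by decide +kernel) h, hm⟩
  · exact ⟨by decide +kernel, by decide +kernel,
      fun π h => permOK_of_simplyLaced _ (by decide +kernel) h, hm⟩

end EA
end H13
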