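import Cfsg.Agent.H13.EA.ChevFrame
import Cfsg.Agent.H13.EA.Diagram

/-!
An automorphism fixing `U` and `V` acts on the fundamental root elements through a diagram
symmetry, constants and a field automorphism.
-/

set_option autoImplicit false
set_option linter.unusedSectionVars false

open Cfsg.Lie
open scoped MatrixGroups

namespace H13
namespace EA

/-- An additive power map of degree two or three agrees with the characteristic power. -/
theorem pow_eq_char {F : Type*} [Field F] [Finite F] {m : ℕ} (hm : m = 2 ∨ m = 3)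
    (h : ∀ x y : F, (x + y) ^ m = x ^ m + y ^ m) (x : F) : x ^ m = x ^ ringChar F := by
  have hp : (ringChar F).Prime := CharP.prime_ringChar F
  rcases hm with rfl | rfl
  · have h2 : ((2 : ℕ) : F) = 0 := by
      have := h 1 1; norm_num at this ⊢; linear_combination this
    rw [ringChar.spec] at h2
    rw [(Nat.prime_dvd_prime_iff_eq hp Nat.prime_two).1 h2]
  · have h6 : ((2 * 3 : ℕ) : F) = 0 := by
      have := h 1 1; norm_num at this ⊢; linear_combination this
    rw [ringChar.spec] at h6
    rcases hp.dvd_mul.1 h6 with h2 | h3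
    · have hc := (Nat.prime_dvd_prime_iff_eq hp Nat.prime_two).1 h2
      rw [hc]
      have h20 : (2 : F) = 0 := by exact_mod_cast (hc ▸ ringChar.Nat.cast_ringChar : ((2 : ℕ) : F) = 0)
      have := h x 1
      have hx : x ^ 2 + x = 0 := by
        have : 3 * (x ^ 2 + x) = 0 := by linear_combination this
        linear_combination this - (x ^ 2 + x) * h20
      linear_combination x * hx - x ^ 2 * h20
    · rw [(Nat.prime_dvd_prime_iff_eq hp Nat.prime_three).1 h3]

/-- The rule `σ (t² u) = (σ t)² σ u` makes an additive bijection multiplicative. -/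
theorem map_mul_of_sq {F : Type*} [Field F] [Finite F] (σ : F → F) (hadd : ∀ a b, σ (a + b) = σ a + σ b)
    (hone : σ 1 = 1) (hsq : ∀ t u, t ≠ 0 → σ (t ^ 2 * u) = σ t ^ 2 * σ u) (a b : F) :
    σ (a * b) = σ a * σ b := by
  have h0 : σ 0 = 0 := by
    have := hadd 0 0; rw [add_zero] at this; linear_combination -this
  have hsq' : ∀ t u, σ (t ^ 2 * u) = σ t ^ 2 * σ u := by
    intro t u
    by_cases ht : t = 0
    · subst ht; simp [h0]
    · exact hsq t u ht
  have hs : ∀ t, σ (t ^ 2) = σ t ^ 2 := fun t => by
    have := hsq' t 1; rwa [mul_one, hone, mul_one] at this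
  by_cases h2 : (2 : F) = 0
  · obtain ⟨c, rfl⟩ : ∃ c, c ^ 2 = a := by
      have : CharP F 2 := by
        refine CharTwo.of_one_ne_zero_of_two_eq_zero one_ne_zero h2
      obtain ⟨c, hc⟩ := surjective_frobenius F 2 a
      exact ⟨c, hc⟩
    rw [hsq', hs]
  · have h1 := hs (a + b)
    rw [show (a + b) ^ 2 = a ^ 2 + b ^ 2 + (a * b + a * b) by ring, hadd, hadd, hadd, hs, hs,
      hadd] at h1
    apply mul_left_cancel₀ h2
    linear_combination h1

variable {D : ChevalleyDatum} (C : H54.Ctx D) {F : Type*} [Field F]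

/-- Products of two Weyl elements of a fundamental root act by a power of their ratio. -/
theorem nn_nn_conj (i : Fin D.rank) {a b : F} (ha : a ≠ 0) (hb : b ≠ 0) {r : ℕ}
    (hr : r < D.nroots) (u : F) :
    nn C (D.simple i.val) a * nn C (D.simple i.val) b * el C r u *
      (nn C (D.simple i.val) a * nn C (D.simple i.val) b)⁻¹ =
      el C r ((-(a / b)) ^ D.cartan i.val r * u) := by
  apply Subtype.ext
  simp only [Subgroup.coe_mul, Subgroup.coe_inv, coe_nn, coe_el]
  have h := C.hC.nElt_mul_nElt (F := F) (C.hC.simple_lt i.isLt) (Units.mk0 a ha) (Units.mk0 b hb)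
  simp only [Units.val_mk0] at h
  rw [h, H52.dgR_congr (χ' := fun s => (-(Units.mk0 a ha * (Units.mk0 b hb)⁻¹)) ^ D.cartan i.val s)
    fun s _ => by rw [C.hC.pairInt_simple i.isLt]]
  rw [C.hC.dgR_conj_rt (C.hC.isChar_cartan i.isLt _) hr]
  congr 2
  simp [Units.val_zpow_eq_zpow_val, div_eq_mul_inv]

/-- Only `-1/T` completes `T` to an element sending the root subgroup to the opposite one. -/
theorem weyl_unique (i : Fin D.rank) {T A : F}
    (h : ∀ u : F, ∃ w : F,
      el C (D.simple i.val) T * el C (D.neg (D.simple i.val)) A * el C (D.simple i.val) T *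
          el C (D.simple i.val) u *
        (el C (D.simple i.val) T * el C (D.neg (D.simple i.val)) A * el C (D.simple i.val) T)⁻¹ =
      el C (D.neg (D.simple i.val)) w) :
    A ≠ 0 ∧ T = -A⁻¹ := by
  have hp := C.hC.simple_lt i.isLt
  have hne : D.simple i.val ≠ D.neg (D.simple i.val) := by
    have := neg_simple_lt C i; have := C.hC.simple_pos i.isLt; omega
  set p := D.simple i.val
  set q := D.neg p
  have hA : A ≠ 0 := by
    intro hA
    obtain ⟨w, hw⟩ := h 1
    rw [hA, el_zero, mul_one] at hw
    simp only [el_mul, el_inv] at hw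
    rw [show T + T + 1 + -(T + T) = 1 by ring] at hw
    exact hne (el_eq_el C hp (C.hC.neg_lt hp) one_ne_zero hw).1
  refine ⟨hA, ?_⟩
  by_contra hT
  set c := T + A⁻¹ with hc
  have hc0 : c ≠ 0 := fun e => hT (by linear_combination e)
  set n := nn C p (-A⁻¹) with hn
  have hy : el C p T * el C q A * el C p T = el C p c * n * el C p c := by
    rw [hn, nn, show -(-A⁻¹)⁻¹ = A by rw [inv_neg, inv_inv, neg_neg]]
    rw [show el C p T = el C p c * el C p (-A⁻¹) by rw [el_mul, hc]; congr 1; ring]
    have : el C p c * el C p (-A⁻¹) = el C p (-A⁻¹) * el C p c := by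
      rw [el_mul, el_mul, add_comm]
    conv_lhs => arg 2; rw [this]
    simp only [q, mul_assoc]
  have hA' : (-A⁻¹ : F) ≠ 0 := by simp [hA]
  -- `x c` maps the opposite root subgroup into itself
  have hnorm : ∀ v : F, ∃ w : F, el C p c * el C q v * (el C p c)⁻¹ = el C q w := by
    intro v
    obtain ⟨w, hw⟩ := h (-v * (-A⁻¹) ^ 2)
    refine ⟨w, ?_⟩
    rw [hy] at hw
    have h1 := nn_conj_rt C hp hA' (-v * (-A⁻¹) ^ 2)
    rw [show -(-v * (-A⁻¹) ^ 2) / (-A⁻¹) ^ 2 = v by field_simp] at h1
    rw [← hw, ← h1, ← hn]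
    have hcomm : el C p c * el C p (-v * (-A⁻¹) ^ 2) = el C p (-v * (-A⁻¹) ^ 2) * el C p c := by
      rw [el_mul, el_mul, add_comm]
    calc el C p c * (n * el C p (-v * (-A⁻¹) ^ 2) * n⁻¹) * (el C p c)⁻¹
        = el C p c * n * (el C p (-v * (-A⁻¹) ^ 2) * el C p c) * (el C p c)⁻¹ * n⁻¹ *
            (el C p c)⁻¹ := by group
      _ = _ := by rw [← hcomm]; group
  obtain ⟨w, hw⟩ := hnorm (-c⁻¹)
  have h2 : nn C p c = el C q w * el C p (c + c) := by
    rw [show el C p (c + c) = el C p c * el C p c from (el_mul C p c c).symm, ← hw]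
    simp only [nn, q, mul_assoc, inv_mul_cancel_left]
  have h3 := nn_conj_rt C hp hc0 (1 : F)
  rw [h2] at h3
  have h4 : el C p (c + c) * el C p 1 = el C p 1 * el C p (c + c) := by
    rw [el_mul, el_mul, add_comm]
  have h5 : el C q w * el C p 1 * (el C q w)⁻¹ = el C q (-1 / c ^ 2) := by
    rw [← h3]
    calc el C q w * el C p 1 * (el C q w)⁻¹
        = el C q w * (el C p 1 * el C p (c + c)) * (el C p (c + c))⁻¹ * (el C q w)⁻¹ := by group
      _ = _ := by rw [← h4]; group
  have h6 : el C p (1 : F) = el C q (-w + -1 / c ^ 2 + w) := by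
    rw [← el_mul, ← el_mul, ← el_inv, ← h5]; group
  exact hne (el_eq_el C hp (C.hC.neg_lt hp) one_ne_zero h6).1

theorem comm_of_cartan_zero (hdiag : diagOK D = true) {i j : Fin D.rank} (hij : i ≠ j)
    (h : D.cartan i.val (D.simple j.val) = 0) :
    D.cartan j.val (D.simple i.val) = 0 ∧ ∀ a b : F,
      Commute (el C (D.simple i.val) a) (el C (D.simple j.val) b) := by
  simp only [diagOK, List.all_eq_true, List.mem_range, Bool.or_eq_true, beq_iff_eq,
    Bool.and_eq_true, bne_iff_ne, ne_eq, List.isEmpty_iff] at hdiag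
  obtain ⟨h1, -⟩ := (hdiag i.val i.isLt j.val j.isLt).resolve_left (fun e => hij (Fin.ext e))
  obtain ⟨hempty, hji⟩ := h1.resolve_left (fun e => e h)
  refine ⟨hji, fun a b => ?_⟩
  have hp := C.hC.simple_lt i.isLt
  have hq := C.hC.simple_lt j.isLt
  have hne : D.simple j.val ≠ D.simple i.val := fun e => hij (simple_inj C e).symm
  have hne' : D.simple j.val ≠ D.neg (D.simple i.val) := by
    have := neg_simple_lt C i; have := C.hC.simple_pos j.isLt; omega
  have hcm := C.hC.comm_rt (F := F) hp hq hne hne' a b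
  have hw : H52.wordRt D (D.commWord F (D.simple i.val) (D.simple j.val) a b) = 1 := by
    simp [ChevalleyDatum.commWord, hempty, H52.wordRt]
  rw [hw, mul_one] at hcm
  exact Subtype.ext hcm.symm

theorem cartan_zero_of_comm [Finite F] {i j : Fin D.rank} (hij : i ≠ j)
    (h : ∀ a b : F, Commute (el C (D.simple i.val) a) (el C (D.simple j.val) b)) :
    D.cartan i.val (D.simple j.val) = 0 := by
  have hp := C.hC.simple_lt i.isLt
  have hq := C.hC.simple_lt j.isLt
  have hb : ∀ a b : F, Commute (el C (D.neg (D.simple i.val)) a) (el C (D.simple j.val) b) :=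
    fun a b => ((frame_hyp (F := F) C).commute j i (Ne.symm hij) _ (el_mem_Xs C _ b) _
      (el_mem_Xs C _ a)).symm
  have hn : Commute (nn C (D.simple i.val) (1 : F)) (el C (D.simple j.val) 1) :=
    ((h _ _).mul_left (hb _ _)).mul_left (h _ _)
  have h1 : nn C (D.simple i.val) (1 : F) * el C (D.simple j.val) 1 *
      (nn C (D.simple i.val) (1 : F))⁻¹ =
      el C (D.reflectRoot i.val (D.simple j.val)) ((C.T.eps i.val (D.simple j.val) : F) * 1) := by
    apply Subtype.ext
    simp only [Subgroup.coe_mul, Subgroup.coe_inv, coe_nn, coe_el]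
    exact C.hC.sig_conj_rt i.isLt hq 1
  rw [hn.eq, mul_inv_cancel_right] at h1
  obtain ⟨h2, -⟩ := el_eq_el C hq (C.hC.reflect_lt i.isLt hq) one_ne_zero h1
  have h3 := C.hC.co_reflect i.isLt hq i.isLt
  rw [← h2, if_pos rfl] at h3
  omega

theorem eq_of_edges (hconn : connOK D = true) {β : Type*} (f : Fin D.rank → β)
    (h : ∀ i j : Fin D.rank, i ≠ j → D.cartan i.val (D.simple j.val) = -1 → f i = f j)
    (i j : Fin D.rank) : f i = f j := by
  have hpos : 0 < D.rank := i.pos
  have key : ∀ (k : ℕ) (m : Fin D.rank), m.val ∈ reach D k → f m = f ⟨0, hpos⟩ := by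
    intro k
    induction k with
    | zero => intro m hm; simp only [reach, List.mem_singleton] at hm; exact congrArg f (Fin.ext hm)
    | succ k ih =>
      intro m hm
      simp only [reach, List.mem_filter, List.mem_range, Bool.or_eq_true, List.contains_iff_mem,
        List.any_eq_true, Bool.and_eq_true, bne_iff_ne, ne_eq, beq_iff_eq] at hm
      obtain ⟨-, hm | ⟨a, ha, ha'⟩⟩ := hm
      · exact ih m hm
      · have hlt : a < D.rank := by
          cases k with
          | zero => simp only [reach, List.mem_singleton] at ha; omega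
          | succ k => simp only [reach, List.mem_filter, List.mem_range] at ha; exact ha.1
        rw [← ih ⟨a, hlt⟩ ha]
        rcases ha' with ⟨hne, hA⟩ | ⟨hne, hA⟩
        · exact (h ⟨a, hlt⟩ m (fun e => hne (congrArg Fin.val e)) hA).symm
        · exact h m ⟨a, hlt⟩ (fun e => hne (congrArg Fin.val e).symm) hA
  simp only [connOK, List.all_eq_true, List.mem_range, List.contains_iff_mem] at hconn
  rw [key D.rank i (hconn i.val i.isLt), key D.rank j (hconn j.val j.isLt)]

set_option maxHeartbeats 1000000 in
/-- The normal form of an automorphism fixing `U` and `V`. -/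
theorem normal_form [Finite F] {m : ℕ} (hD : DiagFacts D m) (θ : ↥(D.group F) ≃* ↥(D.group F))
    (hU : (Upos C F).map θ.toMonoidHom = Upos C F) (hV : (Uneg C F).map θ.toMonoidHom = Uneg C F) :
    ∃ (π : Equiv.Perm (Fin D.rank)) (c : Fin D.rank → Fˣ) (σ : F ≃+* F),
      PermOK D m π ∧
      (∀ i j : Fin D.rank, i ≠ j → D.cartan i.val (D.simple j.val) = -1 →
        D.cartan (π i).val (D.simple (π j).val) = -(m : ℤ) → ∀ x y : F, (x + y) ^ m = x ^ m + y ^ m) ∧
      ∀ (i : Fin D.rank) (t : F),
        θ (el C (D.simple i.val) t) = el C (D.simple (π i).val)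
            ((c i : F) * σ t ^ D.graphExp (ringChar F) i.val (π i).val) ∧
        θ (el C (D.neg (D.simple i.val)) t) = el C (D.neg (D.simple (π i).val))
            ((c i : F)⁻¹ * σ t ^ D.graphExp (ringChar F) i.val (π i).val) := by
  classical
  obtain ⟨π, hπ⟩ := Frame.exists_perm (frame_hyp (F := F) C) hU hV
  have hX : ∀ (i : Fin D.rank) (t : F), ∃ a : F,
      θ (el C (D.simple i.val) t) = el C (D.simple (π i).val) a := by
    intro i t
    have := (hπ i).1.le ⟨el C (D.simple i.val) t, el_mem_Xs C _ _, rfl⟩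
    exact this
  have hXn : ∀ (i : Fin D.rank) (t : F), ∃ a : F,
      θ (el C (D.neg (D.simple i.val)) t) = el C (D.neg (D.simple (π i).val)) a := by
    intro i t
    have := (hπ i).2.le ⟨el C (D.neg (D.simple i.val)) t, el_mem_Xs C _ _, rfl⟩
    exact this
  have hsurj : ∀ (i : Fin D.rank) (a : F), ∃ t : F,
      θ (el C (D.simple i.val) t) = el C (D.simple (π i).val) a := by
    intro i a
    obtain ⟨_, ⟨t, rfl⟩, ht⟩ := (hπ i).1.ge (el_mem_Xs C (D.simple (π i).val) a)
    exact ⟨t, ht⟩
  choose f hf using hX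
  choose g hg using hXn
  have hp : ∀ i : Fin D.rank, D.simple i.val < D.nroots := fun i => C.hC.simple_lt i.isLt
  have hadd : ∀ i a b, f i (a + b) = f i a + f i b := fun i a b => el_inj C (hp (π i))
    (by rw [← hf, ← el_mul, map_mul, hf, hf, el_mul])
  have hinj : ∀ i, Function.Injective (f i) := fun i a b h => el_inj C (hp i)
    (θ.injective (by rw [hf, hf, h]))
  have h0 : ∀ i, f i 0 = 0 := fun i => by
    have := hadd i 0 0; rw [add_zero] at this; linear_combination -this
  have hneg : ∀ i a, f i (-a) = -f i a := fun i a => by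
    have := hadd i a (-a); rw [add_neg_cancel, h0] at this; linear_combination -this
  have hne : ∀ i a, a ≠ 0 → f i a ≠ 0 := fun i a ha h => ha (hinj i (by rw [h, h0]))
  -- the opposite parameters
  have hgf : ∀ i t, t ≠ 0 → g i (-t⁻¹) = -(f i t)⁻¹ := by
    intro i t ht
    have h := weyl_unique C (π i) (T := f i t) (A := g i (-t⁻¹)) (fun u => by
      obtain ⟨v, hv⟩ := hsurj i u
      refine ⟨g i (-v / t ^ 2), ?_⟩
      rw [← hv, ← hf, ← hg, ← map_mul, ← map_mul, ← map_inv, ← map_mul, ← map_mul, ← hg,
        ← nn_conj_rt C (hp i) ht v, nn])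
    rw [h.2, inv_neg, inv_inv, neg_neg]
  have hnn : ∀ i t, t ≠ 0 → θ (nn C (D.simple i.val) t) = nn C (D.simple (π i).val) (f i t) := by
    intro i t ht
    rw [nn, map_mul, map_mul, hf, hg, hgf i t ht, nn]
  set c : Fin D.rank → F := fun i => f i 1 with hc
  have hc0 : ∀ i, c i ≠ 0 := fun i => hne i 1 one_ne_zero
  have hact : ∀ i j t u, t ≠ 0 →
      f j (t ^ D.cartan i.val (D.simple j.val) * u) =
        (f i t / c i) ^ D.cartan (π i).val (D.simple (π j).val) * f j u := by
    intro i j t u ht
    apply el_inj C (hp (π j))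
    have h1 := nn_nn_conj C i ht (neg_ne_zero.2 (one_ne_zero (α := F))) (hp j) u
    rw [show -(t / -1) = t by ring] at h1
    have h2 := nn_nn_conj C (π i) (hne i t ht) (neg_ne_zero.2 (hc0 i)) (hp (π j)) (f j u)
    rw [show -(f i t / -c i) = f i t / c i by ring] at h2
    rw [← hf, ← h1, map_mul, map_mul, map_inv, map_mul, hf, hnn i t ht,
      hnn i (-1) (neg_ne_zero.2 one_ne_zero), hneg i 1, h2]
  set s : Fin D.rank → F → F := fun i t => f i t / c i with hs
  have hsone : ∀ i, s i 1 = 1 := fun i => div_self (hc0 i)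
  have hsadd : ∀ i a b, s i (a + b) = s i a + s i b := fun i a b => by
    simp only [hs, hadd, add_div]
  have hsmul : ∀ i a b, s i (a * b) = s i a * s i b := by
    intro i
    refine map_mul_of_sq (s i) (hsadd i) (hsone i) fun t u ht => ?_
    have h := hact i i t u ht
    have hc2 : ∀ k : Fin D.rank, D.cartan k.val (D.simple k.val) = 2 := fun k =>
      (C.hC.simple_facts k.isLt).2.2.1
    rw [hc2, hc2, show ((2 : ℤ)) = ((2 : ℕ) : ℤ) from rfl, zpow_natCast, zpow_natCast] at h
    simp only [hs]
    rw [h]; ring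
  have hsbij : ∀ i, Function.Bijective (s i) := fun i => Finite.injective_iff_bijective.1
    fun a b h => hinj i (by simpa [hs, div_left_inj' (hc0 i)] using h)
  set S : Fin D.rank → (F ≃+* F) := fun i => RingEquiv.ofBijective
    ({ toFun := s i, map_one' := hsone i, map_mul' := hsmul i,
       map_zero' := by simp [hs, h0], map_add' := hsadd i } : F →+* F) (hsbij i) with hS
  have hSapp : ∀ i t, S i t = s i t := fun i t => rfl
  have hlink : ∀ i j t, t ≠ 0 →
      S j (t ^ D.cartan i.val (D.simple j.val)) =
        S i t ^ D.cartan (π i).val (D.simple (π j).val) := by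
    intro i j t ht
    have h := hact i j t 1 ht
    rw [mul_one] at h
    rw [hSapp, hSapp]
    simp only [hs]
    rw [h, mul_div_assoc, show f j 1 = c j from rfl, div_self (hc0 j), mul_one]
  -- the permutation preserves adjacency
  have hadj : Adj D π := by
    intro i j hij
    have hfw : ∀ a b, θ (el C (D.simple i.val) a * el C (D.simple j.val) b) =
        el C (D.simple (π i).val) (f i a) * el C (D.simple (π j).val) (f j b) := fun a b => by
      rw [map_mul, hf, hf]
    constructor
    · intro h
      refine cartan_zero_of_comm C (F := F) (π.injective.ne hij) fun a b => ?_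
      obtain ⟨a', ha'⟩ := hsurj i a
      obtain ⟨b', hb'⟩ := hsurj j b
      rw [← ha', ← hb']
      exact ((comm_of_cartan_zero C hD.diag hij h).2 a' b').map θ
    · intro h
      refine cartan_zero_of_comm C (F := F) hij fun a b => ?_
      have := (comm_of_cartan_zero C hD.diag (π.injective.ne hij) h).2 (f i a) (f j b)
      apply θ.injective
      rw [map_mul, map_mul, hf, hf]
      exact this
  have hperm := hD.perm π hadj
  set p := ringChar F with hpdef
  have : Fact p.Prime := ⟨CharP.prime_ringChar F⟩
  have : CharP F p := ringChar.charP F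
  have hmadd : ∀ i j : Fin D.rank, i ≠ j → D.cartan i.val (D.simple j.val) = -1 →
      D.cartan (π i).val (D.simple (π j).val) = -(m : ℤ) →
      ∀ x y : F, (x + y) ^ m = x ^ m + y ^ m := by
    intro i j _ hA hA' x y
    have hSij : ∀ t, S j t = S i t ^ m := by
      intro t
      by_cases ht : t = 0
      · have : m ≠ 0 := by rcases hD.m_val with h | h <;> omega
        simp [ht, this]
      · have := hlink i j t ht
        rw [hA, hA', zpow_neg_one, zpow_neg, zpow_natCast, map_inv₀, inv_inj] at this
        exact this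
    obtain ⟨a, rfl⟩ := (S i).surjective x
    obtain ⟨b, rfl⟩ := (S i).surjective y
    rw [← map_add, ← hSij, ← hSij, ← hSij, map_add]
  -- removing the exceptional power
  set fr : Fin D.rank → Bool := fun i => flag D i.val (π i).val with hfr
  set τ : Fin D.rank → (F ≃+* F) := fun i =>
    if fr i then (S i).trans (frobeniusEquiv F p).symm else S i with hτ
  have hτS : ∀ i t, S i t = τ i t ^ D.graphExp p i.val (π i).val := by
    intro i t
    have hge : D.graphExp p i.val (π i).val = if fr i then p else 1 := rfl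
    rw [hge, hτ]
    by_cases h : fr i = true
    · simp only [h, if_true]
      exact (frobeniusEquiv_symm_pow_p F p (S i t)).symm
    · simp [h]
  have hedge : ∀ i j : Fin D.rank, i ≠ j → D.cartan i.val (D.simple j.val) = -1 → τ i = τ j := by
    intro i j hij hA
    have hl : ∀ t, t ≠ 0 → S j t⁻¹ = S i t ^ D.cartan (π i).val (D.simple (π j).val) := fun t ht => by
      have := hlink i j t ht
      rwa [hA, zpow_neg_one] at this
    rcases hperm.2 i j hij hA with ⟨hA', hfl⟩ | ⟨hA', hfi, hfj⟩
    · have hSij : ∀ t, S i t = S j t := by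
        intro t
        by_cases ht : t = 0
        · simp [ht]
        · have := hl t ht
          rw [hA', zpow_neg_one, map_inv₀, inv_inj] at this
          exact this.symm
      have hS' : S i = S j := RingEquiv.ext hSij
      simp only [hτ, hfr, hfl, hS']
    · have hSij : ∀ t, S j t = S i t ^ m := by
        intro t
        by_cases ht : t = 0
        · have : m ≠ 0 := by rcases hD.m_val with h | h <;> omega
          simp [ht, this]
        · have := hl t ht
          rw [hA', zpow_neg, zpow_natCast, map_inv₀, inv_inj] at this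
          exact this
      have hpow : ∀ x : F, x ^ m = x ^ p := pow_eq_char hD.m_val (hmadd i j hij hA hA')
      apply RingEquiv.ext
      intro t
      simp only [hτ, hfr, hfi, hfj, if_true, Bool.false_eq_true, if_false, RingEquiv.trans_apply]
      apply (frobeniusEquiv F p).injective
      rw [RingEquiv.apply_symm_apply, hSij, hpow, frobeniusEquiv_apply, frobenius_def]
  rcases isEmpty_or_nonempty (Fin D.rank) with hE | ⟨⟨i₀⟩⟩
  · exact ⟨π, fun _ => 1, RingEquiv.refl F, hperm, hmadd, fun i => hE.elim i⟩
  refine ⟨π, fun i => Units.mk0 (c i) (hc0 i), τ i₀, hperm, hmadd, fun i t => ?_⟩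
  have hτi : τ i₀ = τ i := eq_of_edges hD.conn τ hedge i₀ i
  have hfi : ∀ u, f i u = c i * τ i u ^ D.graphExp p i.val (π i).val := fun u => by
    rw [← hτS, hSapp]; simp only [hs]; rw [mul_div_cancel₀ _ (hc0 i)]
  simp only [Units.val_mk0, hτi]
  refine ⟨by rw [hf, hfi], ?_⟩
  rw [hg]
  congr 1
  by_cases ht : t = 0
  · subst ht
    have hg0 : g i 0 = 0 := el_inj C (C.hC.neg_lt (hp (π i))) (by
      rw [← hg, el_zero, el_zero, map_one])
    have hge : D.graphExp p i.val (π i).val ≠ 0 := by
      unfold ChevalleyDatum.graphExp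
      split_ifs
      · exact (Fact.out : p.Prime).ne_zero
      · omega
    simp [hg0, hge]
  · have h := hgf i (-t⁻¹) (by simp [ht])
    rw [inv_neg, inv_inv, neg_neg, hneg, hfi, inv_neg, neg_neg, mul_inv, map_inv₀, inv_pow, inv_inv] at h
    exact h

end EA
end H13
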