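import Cfsg.Agent.H13.EA.Auts
import Cfsg.Agent.H54.ChevRigid
import Cfsg.Agent.H52.TorusCard
import Cfsg.Agent.H33.TwoSubspaces
import Cfsg.Prelude.Def_KGroupFacts

/-!
The outer automorphism group through the automorphisms fixing `U` and `V`.
-/

set_option autoImplicit false
set_option linter.unusedSectionVars false

open Cfsg.Lie
open scoped MatrixGroups

namespace H13
namespace EA

variable {D : ChevalleyDatum} (C : H54.Ctx D) {F : Type*} [Field F]

/-- The automorphisms fixing `U` and `V`. -/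
noncomputable def A0 (F : Type*) [Field F] : Subgroup (MulAut ↥(D.group F)) where
  carrier := {φ | (Upos C F).map φ.toMonoidHom = Upos C F ∧ (Uneg C F).map φ.toMonoidHom = Uneg C F}
  one_mem' := ⟨by ext; simp, by ext; simp⟩
  mul_mem' := by
    rintro φ ψ ⟨h1, h2⟩ ⟨h3, h4⟩
    have key : ∀ W : Subgroup ↥(D.group F), W.map (φ * ψ).toMonoidHom =
        (W.map ψ.toMonoidHom).map φ.toMonoidHom := fun W => by rw [Subgroup.map_map]; rfl
    exact ⟨by rw [key, h3, h1], by rw [key, h4, h2]⟩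
  inv_mem' := by
    rintro φ ⟨h1, h2⟩
    have key : ∀ W : Subgroup ↥(D.group F), W.map φ.toMonoidHom = W →
        W.map (φ⁻¹).toMonoidHom = W := by
      intro W h
      conv_lhs => rw [← h]
      rw [Subgroup.map_map]
      ext x; simp
    exact ⟨key _ h1, key _ h2⟩

theorem mem_A0 {φ : MulAut ↥(D.group F)} : φ ∈ A0 C F ↔
    (Upos C F).map φ.toMonoidHom = Upos C F ∧ (Uneg C F).map φ.toMonoidHom = Uneg C F := Iff.rfl

theorem mem_A0_of_roots {φ : MulAut ↥(D.group F)}
    (h : ∀ r : Fin D.nroots, ∃ r' : Fin D.nroots,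
      (D.nroots / 2 ≤ r.val ↔ D.nroots / 2 ≤ r'.val) ∧
        (Xs C r.val).map φ.toMonoidHom = Xs C r'.val) : φ ∈ A0 C F := by
  choose f hf hmap using h
  have hinj : Function.Injective f := by
    intro a b hab
    have h1 : Xs (F := F) C a.val = Xs C b.val :=
      Subgroup.map_injective (f := φ.toMonoidHom) φ.injective (by rw [hmap, hmap, hab])
    obtain ⟨t, ht⟩ := h1 ▸ el_mem_Xs C a.val (1 : F)
    exact Fin.ext (el_eq_el C a.isLt b.isLt one_ne_zero ht).1
  have hsurj : Function.Surjective f := Finite.surjective_of_injective hinj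
  refine ⟨?_, ?_⟩
  · rw [Upos_eq, Subgroup.map_iSup]
    simp only [hmap]
    refine le_antisymm (iSup_le fun r => le_iSup_of_le ⟨f r.1, (hf r.1).1 r.2⟩ le_rfl)
      (iSup_le fun s => ?_)
    obtain ⟨r, hr⟩ := hsurj s.1
    exact le_iSup_of_le ⟨r, (hf r).2 (hr ▸ s.2)⟩ (by rw [hr])
  · rw [Uneg_eq, Subgroup.map_iSup]
    simp only [hmap]
    refine le_antisymm (iSup_le fun r => le_iSup_of_le ⟨f r.1, ?_⟩ le_rfl) (iSup_le fun s => ?_)
    · exact not_le.1 fun h => absurd ((hf r.1).2 h) (not_le.2 r.2)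
    · obtain ⟨r, hr⟩ := hsurj s.1
      exact le_iSup_of_le ⟨r, not_le.1 fun h => absurd (hr ▸ (hf r).1 h) (not_le.2 s.2)⟩ (by rw [hr])

theorem nn_map_Xs (i : Fin D.rank) (s : Fin D.nroots) {a : F} (ha : a ≠ 0) :
    (Xs C s.val).map (MulAut.conj (nn C (D.simple i.val) a)).toMonoidHom =
      Xs C (C.W.sigma i s).val := by
  have hh : (nn C (D.simple i.val) a * nn C (D.simple i.val) (-1) : ↥(D.group F)).val ∈
      D.diagonalSubgroup F := by
    rw [Subgroup.coe_mul, coe_nn, coe_nn, ← H52.Checked.hElt_eq]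
    exact C.hC.hElt_mem (C.hC.simple_lt i.isLt) (Units.mk0 a ha)
  have e : nn C (D.simple i.val) a =
      nn C (D.simple i.val) a * nn C (D.simple i.val) (-1) * nn C (D.simple i.val) 1 := by
    rw [show nn C (D.simple i.val) (-1 : F) = (nn C (D.simple i.val) 1)⁻¹ from (nn_inv C _ _).symm]
    group
  rw [e, ← Frame.map_conj_conj]
  have h1 : (Xs C s.val).map (MulAut.conj (nn C (D.simple i.val) (1 : F))).toMonoidHom =
      Xs C (C.W.sigma i s).val := by
    have h := map_Xs_nwE (F := F) C [i] s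
    rw [C.wperm_cons i [], H54.Ctx.wperm_nil, mul_one] at h
    rw [← h]
    congr 3
    apply Subtype.ext
    rw [coe_nn]
    show _ = H54.Ctx.nw D F [i]
    rw [H54.Ctx.nw_cons, H54.Ctx.nw_nil, mul_one]
    exact Units.ext (by rw [C.hC.coe_nElt, H53.coe_nGL C.hC])
  rw [h1, map_Xs_H C hh]

theorem roots_of_param {θ : MulAut ↥(D.group F)} {π : Equiv.Perm (Fin D.rank)}
    {c : Fin D.rank → Fˣ} {σ : F ≃+* F} [Finite F] (h : HasParam C θ π c σ) :
    ∀ r : Fin D.nroots, ∃ r' : Fin D.nroots,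
      (D.nroots / 2 ≤ r.val ↔ D.nroots / 2 ≤ r'.val) ∧
        (Xs C r.val).map θ.toMonoidHom = Xs C r'.val := by
  classical
  set p := ringChar F
  have : Fact p.Prime := ⟨CharP.prime_ringChar F⟩
  have : CharP F p := ringChar.charP F
  have hsur : ∀ i : Fin D.rank,
      Function.Surjective fun t : F => σ t ^ D.graphExp p i.val (π i).val := by
    intro i a
    rcases (show D.graphExp p i.val (π i).val = 1 ∨ D.graphExp p i.val (π i).val = p by
      unfold ChevalleyDatum.graphExp; split_ifs <;> simp) with he | he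
    · exact ⟨σ.symm a, by simp [he]⟩
    · obtain ⟨b, hb⟩ := surjective_frobenius F p a
      exact ⟨σ.symm b, by simpa [he, frobenius_def] using hb⟩
  have hbase : ∀ i : Fin D.rank,
      (Xs C (D.simple i.val)).map θ.toMonoidHom = Xs C (D.simple (π i).val) ∧
      (Xs C (D.neg (D.simple i.val))).map θ.toMonoidHom = Xs C (D.neg (D.simple (π i).val)) := by
    intro i
    constructor
    · apply le_antisymm
      · rintro _ ⟨_, ⟨t, rfl⟩, rfl⟩; exact ⟨_, (h i t).1⟩
      · rintro _ ⟨a, rfl⟩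
        obtain ⟨t, ht⟩ := hsur i ((c i : F)⁻¹ * a)
        refine ⟨el C (D.simple i.val) t, el_mem_Xs C _ _, (h i t).1.trans ?_⟩
        simp only at ht
        rw [ht, ← mul_assoc, mul_inv_cancel₀ (c i).ne_zero, one_mul]
    · apply le_antisymm
      · rintro _ ⟨_, ⟨t, rfl⟩, rfl⟩; exact ⟨_, (h i t).2⟩
      · rintro _ ⟨a, rfl⟩
        obtain ⟨t, ht⟩ := hsur i ((c i : F) * a)
        refine ⟨el C (D.neg (D.simple i.val)) t, el_mem_Xs C _ _, (h i t).2.trans ?_⟩
        simp only at ht
        rw [ht, ← mul_assoc, inv_mul_cancel₀ (c i).ne_zero, one_mul]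
  set negF := H53.WeylFor.negF C.W with hnegF
  have hax := C.axioms (F := ℚ)
  have hW_neg : ∀ (i : Fin D.rank) (s : Fin D.nroots),
      C.W.sigma i (negF s) = negF (C.W.sigma i s) := fun i s => hax.sigma_neg i s
  have key : ∀ (k : ℕ) (r : Fin D.nroots), r.val = k → D.nroots / 2 ≤ r.val →
      ∃ r' : Fin D.nroots, D.nroots / 2 ≤ r'.val ∧ (Xs C r.val).map θ.toMonoidHom = Xs C r'.val ∧
        (Xs C (negF r).val).map θ.toMonoidHom = Xs C (negF r').val := by
    intro k
    induction k using Nat.strong_induction_on with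
    | _ k ih =>
    intro r hk hr
    rcases C.W.lower r hr with ⟨i, rfl⟩ | ⟨i, hs, hlt⟩
    · refine ⟨C.W.data.simple (π i), hax.pos_a (π i), ?_, ?_⟩
      · rw [C.W.simple_eq, C.W.simple_eq]; exact (hbase i).1
      · show (Xs C (D.neg _)).map θ.toMonoidHom = Xs C (D.neg _)
        rw [C.W.simple_eq, C.W.simple_eq]; exact (hbase i).2
    set s := C.W.data.act i r with hsdef
    obtain ⟨s', hs', hmap, hmap'⟩ := ih s.val (hk ▸ hlt) s rfl hs
    have hrs : C.W.sigma i s = r := by
      rw [H53.WeylFor.sigma_apply]; exact C.W.valid.act_invol i r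
    have hsne : s ≠ C.W.data.simple i := by
      intro e
      have h1 : r = negF (C.W.data.simple i) := by rw [← hrs, e]; exact hax.sigma_a i
      rw [h1] at hr
      exact (C.W.pos_negF _).1 hr (hax.pos_a i)
    have hs'ne : s' ≠ C.W.data.simple (π i) := by
      intro e
      apply hsne
      have h1 : Xs (F := F) C s.val = Xs C (D.simple i.val) :=
        Subgroup.map_injective (f := θ.toMonoidHom) θ.injective
          (by rw [hmap, e, C.W.simple_eq, (hbase i).1])
      obtain ⟨t, ht⟩ := h1 ▸ el_mem_Xs C s.val (1 : F)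
      apply Fin.ext
      rw [C.W.simple_eq]
      exact (el_eq_el C s.isLt (C.hC.simple_lt i.isLt) one_ne_zero ht).1
    set e := D.graphExp p i.val (π i).val with he
    have hθn : θ (nn C (D.simple i.val) (1 : F)) = nn C (D.simple (π i).val) (c i : F) := by
      have he2 : ((-1 : F)) ^ e = -1 := by
        rcases (show e = 1 ∨ e = p by
          rw [he]; unfold ChevalleyDatum.graphExp; split_ifs <;> simp) with h1 | h1
        · rw [h1, pow_one]
        · rw [h1]
          have h2 : frobenius F p (-1 : F) = -1 := by rw [map_neg, map_one]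
          rwa [frobenius_def] at h2
      rw [nn, map_mul, map_mul, (h i 1).1, (h i _).2, nn]
      simp [he2, show D.graphExp (ringChar F) i.val (π i).val = e from rfl]
    have hpush : ∀ W W' : Subgroup ↥(D.group F), W.map θ.toMonoidHom = W' →
        (W.map (MulAut.conj (nn C (D.simple i.val) (1 : F))).toMonoidHom).map θ.toMonoidHom =
          W'.map (MulAut.conj (nn C (D.simple (π i).val) (c i : F))).toMonoidHom := by
      intro W W' hW
      rw [Frame.map_conj_map, hW, hθn]
    refine ⟨C.W.sigma (π i) s', hax.sigma_pos (π i) s' hs' hs'ne, ?_, ?_⟩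
    · rw [← hrs, ← nn_map_Xs C i s (one_ne_zero (α := F)), hpush _ _ hmap,
        nn_map_Xs C (π i) s' (c i).ne_zero]
    · rw [← hrs, ← hW_neg, ← hW_neg, ← nn_map_Xs C i (negF s) (one_ne_zero (α := F)),
        hpush _ _ hmap', nn_map_Xs C (π i) (negF s') (c i).ne_zero]
  intro r
  by_cases hr : D.nroots / 2 ≤ r.val
  · obtain ⟨r', h1, h2, -⟩ := key _ r rfl hr
    exact ⟨r', iff_of_true hr h1, h2⟩
  · obtain ⟨r', h1, -, h3⟩ := key _ (negF r) rfl ((C.W.pos_negF r).2 hr)
    rw [hnegF, C.W.negF_negF] at h3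
    exact ⟨_, iff_of_false hr fun h => (C.W.pos_negF r').1 h h1, h3⟩

theorem mem_A0_of_param [Finite F] {θ : MulAut ↥(D.group F)} {π : Equiv.Perm (Fin D.rank)}
    {c : Fin D.rank → Fˣ} {σ : F ≃+* F} (h : HasParam C θ π c σ) : θ ∈ A0 C F :=
  mem_A0_of_roots C (roots_of_param C h)

theorem exists_param [Finite F] {m : ℕ} (hD : DiagFacts D m) {θ : MulAut ↥(D.group F)}
    (hθ : θ ∈ A0 C F) : ∃ π c σ, PermOK D m π ∧
      (∀ i j : Fin D.rank, i ≠ j → D.cartan i.val (D.simple j.val) = -1 →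
        D.cartan (π i).val (D.simple (π j).val) = -(m : ℤ) →
          ∀ x y : F, (x + y) ^ m = x ^ m + y ^ m) ∧ HasParam C θ π c σ :=
  normal_form C hD θ hθ.1 hθ.2

theorem HasParam.inj [Finite F] {θ : MulAut ↥(D.group F)} {π π' : Equiv.Perm (Fin D.rank)}
    {c c' : Fin D.rank → Fˣ} {σ σ' : F ≃+* F} (h : HasParam C θ π c σ)
    (h' : HasParam C θ π' c' σ') : π = π' ∧ c = c' ∧ (Nonempty (Fin D.rank) → σ = σ') := by
  have hπ : π = π' := by
    ext i
    have h1 := (h i 1).1.symm.trans (h' i 1).1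
    simp only [map_one, one_pow, mul_one] at h1
    exact congrArg Fin.val (simple_inj C
      (el_eq_el C (C.hC.simple_lt (π i).isLt) (C.hC.simple_lt (π' i).isLt) (c i).ne_zero h1).1)
  subst hπ
  have hc : c = c' := by
    funext i
    have h1 := el_inj C (C.hC.simple_lt (π i).isLt) ((h i 1).1.symm.trans (h' i 1).1)
    simp only [map_one, one_pow, mul_one] at h1
    exact Units.ext h1
  subst hc
  refine ⟨rfl, rfl, fun ⟨i⟩ => RingEquiv.ext fun t => ?_⟩
  have h1 := el_inj C (C.hC.simple_lt (π i).isLt) ((h i t).1.symm.trans (h' i t).1)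
  have h2 := mul_left_cancel₀ (c i).ne_zero h1
  set p := ringChar F
  have : Fact p.Prime := ⟨CharP.prime_ringChar F⟩
  have : CharP F p := ringChar.charP F
  rcases (show D.graphExp p i.val (π i).val = 1 ∨ D.graphExp p i.val (π i).val = p by
    unfold ChevalleyDatum.graphExp; split_ifs <;> simp) with he | he
  · simpa [he] using h2
  · rw [he] at h2
    exact frobenius_inj F p (by simpa [frobenius_def] using h2)

/-- The diagram symmetries realised by automorphisms. -/
def symSet (F : Type*) [Field F] : Set (Equiv.Perm (Fin D.rank)) :=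
  {π | ∃ (θ : MulAut ↥(D.group F)) (c : Fin D.rank → Fˣ) (σ : F ≃+* F), HasParam C θ π c σ}

theorem exists_with_param {π : Equiv.Perm (Fin D.rank)} (hπ : π ∈ symSet C F)
    (c : Fin D.rank → Fˣ) (σ : F ≃+* F) : ∃ θ : MulAut ↥(D.group F), HasParam C θ π c σ := by
  obtain ⟨θ₀, c₀, σ₀, h₀⟩ := hπ
  have h := HasParam.adjust C h₀ (fun i => c i * (c₀ i)⁻¹) (σ.trans σ₀.symm)
  refine ⟨((fieldAut C (σ.trans σ₀.symm)).trans
    (MulEquiv.trans θ₀ (diagAut C fun j => c (π.symm j) * (c₀ (π.symm j))⁻¹))), fun i t => ?_⟩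
  have h' := h i t
  simp only [inv_mul_cancel_right] at h'
  simpa using h'

theorem card_A0 [Finite F] {m : ℕ} (hD : DiagFacts D m) [Nonempty (Fin D.rank)] :
    Nat.card (A0 C F) =
      Nat.card (symSet C F) * (Nat.card Fˣ ^ D.rank * Nat.card (F ≃+* F)) := by
  classical
  let Φ : symSet C F × ((Fin D.rank → Fˣ) × (F ≃+* F)) → A0 C F := fun x =>
    ⟨Classical.choose (exists_with_param C x.1.2 x.2.1 x.2.2),
      mem_A0_of_param C (Classical.choose_spec (exists_with_param C x.1.2 x.2.1 x.2.2))⟩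
  have hΦ : ∀ x, HasParam C ((Φ x : MulAut ↥(D.group F))) x.1.1 x.2.1 x.2.2 := fun x =>
    Classical.choose_spec (exists_with_param C x.1.2 x.2.1 x.2.2)
  have hbij : Function.Bijective Φ := by
    constructor
    · intro x y hxy
      obtain ⟨h1, h2, h3⟩ := HasParam.inj C (hΦ x) (hxy ▸ hΦ y)
      exact Prod.ext (Subtype.ext h1) (Prod.ext h2 (h3 inferInstance))
    · rintro ⟨θ, hθ⟩
      obtain ⟨π, c, σ, -, -, h⟩ := exists_param C hD hθ
      exact ⟨(⟨π, θ, c, σ, h⟩, c, σ), Subtype.ext (HasParam.unique C (hΦ _) h)⟩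
  rw [← Nat.card_eq_of_bijective Φ hbij, Nat.card_prod, Nat.card_prod, Nat.card_pi]
  simp

/-- The map from `A0` to the outer automorphism group. -/
noncomputable def toOut (F : Type*) [Field F] : ↥(A0 C F) →* Cfsg.Out ↥(D.group F) :=
  (QuotientGroup.mk' (Cfsg.Inn ↥(D.group F))).comp (A0 C F).subtype

theorem toOut_surjective [Finite F] : Function.Surjective (toOut C F) := by
  intro φ
  obtain ⟨φ, rfl⟩ := QuotientGroup.mk'_surjective _ φ
  have : Fact (ringChar F).Prime := ⟨CharP.prime_ringChar F⟩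
  have : CharP F (ringChar F) := ringChar.charP F
  obtain ⟨x, hx⟩ := exists_fix C (ringChar F) φ
  refine ⟨⟨MulAut.conj x⁻¹ * φ, hx⟩, ?_⟩
  show QuotientGroup.mk' _ (MulAut.conj x⁻¹ * φ) = _
  rw [map_mul, show QuotientGroup.mk' (Cfsg.Inn ↥(D.group F)) (MulAut.conj x⁻¹) = 1 from
    (QuotientGroup.eq_one_iff _).2 ⟨x⁻¹, rfl⟩, one_mul]

include C in
theorem center_trivial {g : ↥(D.group F)} (h : MulAut.conj g = 1) : g = 1 := by
  refine Subtype.ext (C.eq_one_of_commute g.2 fun r hr => ?_)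
  have := congrArg Subtype.val (MulEquiv.congr_fun h (el C r (1 : F)))
  simp only [MulAut.conj_apply, MulAut.one_apply, Subgroup.coe_mul, Subgroup.coe_inv, coe_el] at this
  exact mul_inv_eq_iff_eq_mul.1 this

theorem conj_mem_A0_iff [Finite F] (g : ↥(D.group F)) :
    MulAut.conj g ∈ A0 C F ↔ g ∈ (frame C F).H := by
  constructor
  · intro h; exact Frame.mem_H (frame_hyp C) h.1 h.2
  · intro h; exact ⟨(frame_hyp C).H_U g h, (frame_hyp C).H_V g h⟩

theorem card_out [Finite F] :
    Nat.card (Cfsg.Out ↥(D.group F)) * Nat.card (D.diagonalSubgroup F) = Nat.card (A0 C F) := by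
  have h1 := (toOut C F).ker.index_mul_card
  rw [Subgroup.index_ker, MonoidHom.range_eq_top.2 (toOut_surjective C), Subgroup.card_top] at h1
  rw [← h1]
  congr 1
  let e : ↥((frame C F).H) → ↥(toOut C F).ker := fun g =>
    ⟨⟨MulAut.conj g.1, (conj_mem_A0_iff C g.1).2 g.2⟩,
      (QuotientGroup.eq_one_iff _).2 ⟨g.1, rfl⟩⟩
  have hbij : Function.Bijective e := by
    constructor
    · intro a b hab
      have h2 : MulAut.conj (a.1⁻¹ * b.1) = 1 := by
        have : MulAut.conj a.1 = MulAut.conj b.1 :=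
          congrArg (fun z : ↥(toOut C F).ker => ((z : A0 C F) : MulAut ↥(D.group F))) hab
        rw [map_mul, map_inv, this, inv_mul_cancel]
      exact Subtype.ext (inv_mul_eq_one.1 (center_trivial C h2))
    · rintro ⟨⟨φ, hφ⟩, hker⟩
      obtain ⟨g, rfl⟩ := (QuotientGroup.eq_one_iff _).1 hker
      exact ⟨⟨g, (conj_mem_A0_iff C g).1 hφ⟩, rfl⟩
  rw [← Nat.card_eq_of_bijective e hbij]
  exact (Nat.card_congr (Subgroup.subgroupOfEquivOfLe (C.hC.diag_le_group (F := F))).toEquiv).symm

/-- The order of the outer automorphism group. -/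
theorem card_out_eq [Fintype F] {m : ℕ} (hD : DiagFacts D m) [Nonempty (Fin D.rank)]
    {d : Fin D.rank → ℕ} (hd : H52.HasDivisors D d) {p f : ℕ} [Fact p.Prime]
    (hF : Fintype.card F = p ^ f) :
    Nat.card (Cfsg.Out ↥(D.group F)) =
      Nat.card (symSet C F) * f * ∏ i, (p ^ f - 1).gcd (d i) := by
  classical
  have h1 := card_out C (F := F)
  have h2 := C.hC.card_diagonal (F := F) hd
  have h3 := card_A0 (F := F) C hD
  have hpos : 0 < Nat.card (D.diagonalSubgroup F) := Nat.card_pos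
  rw [Nat.card_units, H33.TwoSub.card_ringEquiv (p := p) F (n := f) (by rw [Nat.card_eq_fintype_card, hF]),
    Nat.card_eq_fintype_card (α := F), ← h2, hF] at h3
  apply Nat.eq_of_mul_eq_mul_right hpos
  rw [h1, h3]
  ring

end EA
end H13
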