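import Cfsg.Agent.H13.EA.Sym
import Cfsg.Agent.H13.EA.D4Trans
import Cfsg.Agent.H54.RootChar

/-!
The structure of the outer automorphism group of an exceptional Chevalley group: diagonal part,
field part and the quotient by their product.
-/

set_option autoImplicit false
set_option linter.unusedSectionVars false
set_option maxRecDepth 4000

open Cfsg.Lie
open scoped commutatorElement

namespace H13
namespace EA

variable {D : ChevalleyDatum} (C : H54.Ctx D) {F : Type*} [Field F]

theorem param_diagAut (cc : Fin D.rank → Fˣ) :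
    HasParam C (diagAut C cc : MulAut ↥(D.group F)) 1 cc (RingEquiv.refl F) := fun i t => by
  obtain ⟨h1, h2⟩ := diagAut_simple C cc i t
  exact ⟨by simpa [graphExp_self] using h1, by simpa [graphExp_self] using h2⟩

theorem param_fieldAut (σ : F ≃+* F) :
    HasParam C (fieldAut C σ : MulAut ↥(D.group F)) 1 (fun _ => 1) σ := fun i t => by
  constructor <;> simp [fieldAut_el, graphExp_self]

/-- The diagonal automorphisms. -/
noncomputable def diagHom (F : Type*) [Field F] : (Fin D.rank → Fˣ) →* MulAut ↥(D.group F) where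
  toFun cc := diagAut C cc
  map_one' := HasParam.unique C (param_diagAut C 1)
    (fun i t => by constructor <;> simp [graphExp_self])
  map_mul' a b := by
    refine ext_el C fun i t => ?_
    rw [MulAut.mul_apply, MulAut.mul_apply, (diagAut_simple C b i t).1, (diagAut_simple C b i t).2,
      (diagAut_simple C a i _).1, (diagAut_simple C a i _).2, (diagAut_simple C (a * b) i t).1,
      (diagAut_simple C (a * b) i t).2]
    constructor
    · rw [Pi.mul_apply, Units.val_mul, mul_assoc]
    · rw [Pi.mul_apply, Units.val_mul, mul_inv, mul_assoc]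

/-- The field automorphisms. -/
noncomputable def fieldHom (F : Type*) [Field F] : (F ≃+* F) →* MulAut ↥(D.group F) where
  toFun σ := fieldAut C σ
  map_one' := HasParam.unique C (param_fieldAut C 1)
    (fun i t => by constructor <;> simp [graphExp_self])
  map_mul' a b := by
    refine ext_el C fun i t => ?_
    simp [MulAut.mul_apply, fieldAut_el, RingAut.mul_apply]

@[simp] theorem diagHom_apply (cc : Fin D.rank → Fˣ) : diagHom C F cc = diagAut C cc := rfl

@[simp] theorem fieldHom_apply (σ : F ≃+* F) : fieldHom C F σ = fieldAut C σ := rfl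

theorem diag_set :
    {φ : MulAut ↥(D.group F) | D.IsDiagonalAut φ} = Set.range (diagHom C F) := by
  ext φ
  constructor
  · rintro ⟨χ, hχ, h⟩
    refine ⟨fun i => χ (D.simple i.val), ?_⟩
    have key : ∀ {r : ℕ}, r < D.nroots → ∀ t : F, φ (el C r t) = el C r ((χ r : F) * t) := by
      intro r hr t
      apply eq_el C
      rw [h, coe_el_mat, H54.charDiag_mul_x_mul C.hok hχ hr]
    refine (ext_el C fun i t => ⟨?_, ?_⟩).symm
    · rw [key (C.hC.simple_lt i.isLt), diagHom_apply, (diagAut_simple C _ i t).1]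
    · rw [key (C.hC.neg_lt (C.hC.simple_lt i.isLt)), diagHom_apply, (diagAut_simple C _ i t).2,
        hχ.1 _ (C.hC.simple_lt i.isLt), Units.val_inv_eq_inv_val]
  · rintro ⟨cc, rfl⟩
    exact isDiagonalAut_diagAut C cc

theorem field_set :
    {φ : MulAut ↥(D.group F) | D.IsFieldAut φ} = Set.range (fieldHom C F) := by
  ext φ
  constructor
  · rintro ⟨σ, h⟩
    refine ⟨σ, (ext_el C fun i t => ⟨?_, ?_⟩).symm⟩
    · rw [eq_el C (h _ _ t (C.hC.simple_lt i.isLt) (coe_el_mat C _ _)), fieldHom_apply, fieldAut_el]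
    · rw [eq_el C (h _ _ t (C.hC.neg_lt (C.hC.simple_lt i.isLt)) (coe_el_mat C _ _)), fieldHom_apply,
        fieldAut_el]
  · rintro ⟨σ, rfl⟩
    exact isFieldAut_fieldAut C σ

theorem closure_range {A B : Type*} [Group A] [Group B] (g : A →* B) :
    Subgroup.closure (Set.range g) = g.range := by
  rw [← MonoidHom.coe_range, Subgroup.closure_eq]

/-- Diagonal automorphisms are permuted by conjugation. -/
theorem conj_diag {θ : MulAut ↥(D.group F)} {π : Equiv.Perm (Fin D.rank)}
    {c : Fin D.rank → Fˣ} {σ : F ≃+* F} (h : HasParam C θ π c σ) (cc : Fin D.rank → Fˣ) :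
    θ * diagAut C cc * θ⁻¹ = diagAut C (fun j =>
      Units.map σ.toMonoidHom (cc (π.symm j)) ^
        D.graphExp (ringChar F) (π.symm j).val j.val) := by
  rw [mul_inv_eq_iff_eq_mul]
  refine ext_el C fun i t => ?_
  constructor
  · rw [MulAut.mul_apply, MulAut.mul_apply, (diagAut_simple C cc i t).1, (h i _).1, (h i t).1,
      (diagAut_simple C _ (π i) _).1]
    congr 1
    simp only [Equiv.symm_apply_apply, Units.val_pow_eq_pow_val, Units.coe_map, map_mul, mul_pow]
    simp
    ring
  · rw [MulAut.mul_apply, MulAut.mul_apply, (diagAut_simple C cc i t).2, (h i _).2, (h i t).2,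
      (diagAut_simple C _ (π i) _).2]
    congr 1
    simp only [Equiv.symm_apply_apply, Units.val_pow_eq_pow_val, Units.coe_map, map_mul, map_inv₀,
      mul_pow, inv_pow]
    simp
    ring

theorem exists_pi [Finite F] {m : ℕ} (hD : DiagFacts D m) (θ : A0 C F) :
    ∃ π : Equiv.Perm (Fin D.rank), ∀ (i : Fin D.rank) (t : F), ∃ a : F,
      θ.1 (el C (D.simple i.val) t) = el C (D.simple (π i).val) a := by
  obtain ⟨π, c, σ, -, -, h⟩ := exists_param C hD θ.2
  exact ⟨π, fun i t => ⟨_, (h i t).1⟩⟩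

/-- The permutation of the fundamental roots induced by an automorphism fixing `U` and `V`. -/
noncomputable def piOf [Finite F] {m : ℕ} (hD : DiagFacts D m) (θ : A0 C F) :
    Equiv.Perm (Fin D.rank) :=
  Classical.choose (exists_pi C hD θ)

theorem piOf_spec [Finite F] {m : ℕ} (hD : DiagFacts D m) (θ : A0 C F) (i : Fin D.rank) (t : F) :
    ∃ a : F, θ.1 (el C (D.simple i.val) t) = el C (D.simple (piOf C hD θ i).val) a :=
  Classical.choose_spec (exists_pi C hD θ) i t

theorem el_zero' (r : ℕ) : el C r (0 : F) = 1 := el_zero C r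

theorem piOf_eq [Finite F] {m : ℕ} (hD : DiagFacts D m) (θ : A0 C F) (i j : Fin D.rank) (a : F)
    (ha : θ.1 (el C (D.simple i.val) 1) = el C (D.simple j.val) a) : piOf C hD θ i = j := by
  obtain ⟨b, hb⟩ := piOf_spec C hD θ i 1
  have hne : b ≠ 0 := by
    intro e
    rw [e, el_zero' C] at hb
    have h1 : el C (D.simple i.val) (1 : F) = el C (D.simple i.val) 0 := by
      rw [el_zero' C]
      exact θ.1.injective (by rw [hb, map_one])
    exact one_ne_zero (el_inj C (C.hC.simple_lt i.isLt) h1)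
  exact simple_inj C (el_eq_el C (C.hC.simple_lt (piOf C hD θ i).isLt) (C.hC.simple_lt j.isLt) hne
    (hb.symm.trans ha)).1

theorem piOf_param [Finite F] {m : ℕ} (hD : DiagFacts D m) (θ : A0 C F)
    {π : Equiv.Perm (Fin D.rank)} {c : Fin D.rank → Fˣ} {σ : F ≃+* F}
    (h : HasParam C θ.1 π c σ) : piOf C hD θ = π :=
  Equiv.ext fun i => piOf_eq C hD θ i (π i) _ (h i 1).1

/-- The action on the nodes of the diagram. -/
noncomputable def piHom [Finite F] {m : ℕ} (hD : DiagFacts D m) :
    ↥(A0 C F) →* Equiv.Perm (Fin D.rank) :=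
  MonoidHom.mk' (piOf C hD) fun θ θ' => Equiv.ext fun i => by
    obtain ⟨a, ha⟩ := piOf_spec C hD θ' i 1
    obtain ⟨b, hb⟩ := piOf_spec C hD θ (piOf C hD θ' i) a
    exact piOf_eq C hD (θ * θ') i _ b (by rw [Subgroup.coe_mul, MulAut.mul_apply, ha, hb]; rfl)

theorem piHom_range [Finite F] {m : ℕ} (hD : DiagFacts D m) :
    ((piHom C (F := F) hD).range : Set (Equiv.Perm (Fin D.rank))) = symSet C F := by
  ext π
  constructor
  · rintro ⟨θ, rfl⟩
    obtain ⟨π, c, σ, -, -, h⟩ := exists_param C hD θ.2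
    exact ⟨θ.1, c, σ, by rw [show piHom C hD θ = π from piOf_param C hD θ h]; exact h⟩
  · rintro ⟨θ, c, σ, h⟩
    exact ⟨⟨θ, mem_A0_of_param C h⟩, piOf_param C hD _ h⟩

theorem toOut_ker_le [Finite F] {m : ℕ} (hD : DiagFacts D m) :
    (toOut C F).ker ≤ (piHom C hD).ker := by
  intro θ hθ
  obtain ⟨g, hg⟩ := (QuotientGroup.eq_one_iff _).1 (MonoidHom.mem_ker.1 hθ)
  have hmem : MulAut.conj g ∈ A0 C F := by
    rw [show MulAut.conj g = θ.1 from hg]; exact θ.2
  have hH : (g : GL D.Idx F) ∈ D.diagonalSubgroup F := (conj_mem_A0_iff C g).1 hmem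
  rw [MonoidHom.mem_ker]
  refine Equiv.ext fun i => ?_
  obtain ⟨u, hu⟩ := H_norm C hH (D.simple i.val) (1 : F)
  refine piOf_eq C hD θ i i u ?_
  rw [← show MulAut.conj g = θ.1 from hg, MulAut.conj_apply, hu]

section
variable {F : Type*} [Field F] [Finite F]

omit C in
theorem ringAut_cyclic : IsCyclic (F ≃+* F) := by
  haveI : Fact (ringChar F).Prime := ⟨CharP.prime_ringChar F⟩
  haveI : CharP F (ringChar F) := ringChar.charP F
  letI : Algebra (ZMod (ringChar F)) F := ZMod.algebra F (ringChar F)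
  let f : (F ≃ₐ[ZMod (ringChar F)] F) →* (F ≃+* F) :=
    { toFun := fun e => e.toRingEquiv, map_one' := rfl, map_mul' := fun _ _ => rfl }
  refine isCyclic_of_surjective f fun σ => ?_
  exact ⟨{ σ with commutes' := fun r => RingHom.congr_fun (Subsingleton.elim
        ((σ : F →+* F).comp (algebraMap (ZMod (ringChar F)) F))
          (algebraMap (ZMod (ringChar F)) F)) r }, rfl⟩

variable {m : ℕ} (hD : DiagFacts D m) {Dbar Fbar : Subgroup (Cfsg.Out ↥(D.group F))}
  (hDbar : Dbar = (Subgroup.closure {φ : MulAut ↥(D.group F) | D.IsDiagonalAut φ}).map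
    (QuotientGroup.mk' (Cfsg.Inn ↥(D.group F))))
  (hFbar : Fbar = (Subgroup.closure {φ : MulAut ↥(D.group F) | D.IsFieldAut φ}).map
    (QuotientGroup.mk' (Cfsg.Inn ↥(D.group F))))

include C hDbar in
theorem dbar_eq : Dbar = ((QuotientGroup.mk' (Cfsg.Inn ↥(D.group F))).comp (diagHom C F)).range := by
  rw [hDbar, diag_set C, closure_range, MonoidHom.range_comp]

include C hFbar in
theorem fbar_eq :
    Fbar = ((QuotientGroup.mk' (Cfsg.Inn ↥(D.group F))).comp (fieldHom C F)).range := by
  rw [hFbar, field_set C, closure_range, MonoidHom.range_comp]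

include C hD hDbar hFbar in
theorem sup_eq_map_ker : Dbar ⊔ Fbar = (piHom C hD).ker.map (toOut C F) := by
  rw [dbar_eq C hDbar, fbar_eq C hFbar]
  apply le_antisymm
  · refine sup_le ?_ ?_
    · rintro _ ⟨cc, rfl⟩
      exact ⟨⟨_, mem_A0_of_param C (param_diagAut C cc)⟩,
        MonoidHom.mem_ker.2 (piOf_param C hD _ (param_diagAut C cc)), rfl⟩
    · rintro _ ⟨σ, rfl⟩
      exact ⟨⟨_, mem_A0_of_param C (param_fieldAut C σ)⟩,
        MonoidHom.mem_ker.2 (piOf_param C hD _ (param_fieldAut C σ)), rfl⟩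
  · rintro _ ⟨θ, hθ, rfl⟩
    obtain ⟨π, c, σ, -, -, h⟩ := exists_param C hD θ.2
    obtain rfl : π = 1 := (piOf_param C hD θ h).symm.trans (MonoidHom.mem_ker.1 hθ)
    have he : θ.1 = diagHom C F c * fieldHom C F σ := by
      refine HasParam.unique C h fun i t => ?_
      constructor
      · simp [MulAut.mul_apply, fieldAut_el, (diagAut_simple C c i _).1, graphExp_self]
      · simp [MulAut.mul_apply, fieldAut_el, (diagAut_simple C c i _).2, graphExp_self]
    show QuotientGroup.mk' _ θ.1 ∈ _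
    rw [he, map_mul]
    exact mul_mem (Subgroup.mem_sup_left ⟨c, rfl⟩) (Subgroup.mem_sup_right ⟨σ, rfl⟩)

include C hD hDbar hFbar in
theorem structure_main :
    Dbar.Normal ∧ IsMulCommutative ↥Dbar ∧ IsCyclic ↥Fbar ∧ (Dbar ⊔ Fbar).Normal ∧
      (Dbar ⊔ Fbar).index = Nat.card (symSet C F) ∧
      ((∃ a ∈ symSet C F, ∃ b ∈ symSet C F, a * b ≠ b * a) →
        ¬ commutator (Cfsg.Out ↥(D.group F)) ≤ Dbar ⊔ Fbar) := by
  have hK := sup_eq_map_ker C hD hDbar hFbar
  refine ⟨?_, ?_, ?_, ?_, ?_, ?_⟩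
  · rw [dbar_eq C hDbar]
    refine ⟨fun x hx y => ?_⟩
    obtain ⟨cc, rfl⟩ := hx
    obtain ⟨θ, rfl⟩ := toOut_surjective C y
    obtain ⟨π, c, σ, -, -, h⟩ := exists_param C hD θ.2
    refine ⟨fun j => Units.map σ.toMonoidHom (cc (π.symm j)) ^
        D.graphExp (ringChar F) (π.symm j).val j.val, ?_⟩
    show QuotientGroup.mk' _ (diagAut C _) = QuotientGroup.mk' _ θ.1 * QuotientGroup.mk' _ (diagAut C cc) *
      (QuotientGroup.mk' _ θ.1)⁻¹
    rw [← map_inv, ← map_mul, ← map_mul, conj_diag C h cc]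
  · rw [dbar_eq C hDbar]
    refine ⟨⟨?_⟩⟩
    rintro ⟨_, a, rfl⟩ ⟨_, b, rfl⟩
    exact Subtype.ext (by rw [Subgroup.coe_mul, Subgroup.coe_mul, ← map_mul, ← map_mul, mul_comm])
  · rw [fbar_eq C hFbar]
    haveI := ringAut_cyclic (F := F)
    exact isCyclic_of_surjective _ (MonoidHom.rangeRestrict_surjective _)
  · rw [hK]
    exact Subgroup.Normal.map inferInstance _ (toOut_surjective C)
  · rw [hK, Subgroup.index_map_eq _ (toOut_surjective C) (toOut_ker_le C hD), Subgroup.index_ker,
      ← piHom_range C hD]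
    rfl
  · rintro ⟨a, ha, b, hb, hab⟩ hle
    rw [hK] at hle
    rw [← piHom_range C hD] at ha hb
    obtain ⟨α, rfl⟩ := ha
    obtain ⟨β, rfl⟩ := hb
    have h1 : toOut C F ⁅α, β⁆ ∈ (piHom C hD).ker.map (toOut C F) := by
      rw [map_commutatorElement]
      exact hle (Subgroup.commutator_mem_commutator (Subgroup.mem_top _) (Subgroup.mem_top _))
    rw [← Subgroup.mem_comap, Subgroup.comap_map_eq, sup_eq_left.2 (toOut_ker_le C hD),
      MonoidHom.mem_ker, map_commutatorElement, commutatorElement_eq_one_iff_mul_comm] at h1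
    exact hab h1

end

/-! ### The symmetries of each type. -/

theorem card_symSet_two [Finite F] {m : ℕ} (hD : DiagFacts D m) (hr : D.rank = 2) :
    Nat.card (symSet C F) = 1 ∨ Nat.card (symSet C F) = 2 := by
  rw [← piHom_range C hD]
  have h := Subgroup.card_subgroup_dvd_card (piHom C (F := F) hD).range
  rw [Nat.card_perm, Nat.card_fin, show D.rank.factorial = 2 by rw [hr]; rfl] at h
  exact (Nat.dvd_prime Nat.prime_two).1 h

theorem symSet_D4 (C : H54.Ctx chevD4) [Finite F] :
    Nat.card (symSet C F) = 6 ∧ ∃ a ∈ symSet C F, ∃ b ∈ symSet C F, a * b ≠ b * a := by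
  classical
  have hD := diagFacts_of_mem (D := chevD4) (by simp)
  set a : Equiv.Perm (Fin chevD4.rank) := H53.d4Sym.p with hadef
  set b : Equiv.Perm (Fin chevD4.rank) := d4Trans.p with hbdef
  have ha : a ∈ symSet C F := by
    refine mem_symSet_of_basisSym C H53.d4Sym H53.d4Sym_valid _ ?_ ?_ <;>
      (rw [hadef]; decide +kernel)
  have hb : b ∈ symSet C F := by
    refine mem_symSet_of_basisSym C d4Trans d4Trans_valid _ ?_ ?_ <;>
      (rw [hbdef]; decide +kernel)
  set L : List (Equiv.Perm (Fin chevD4.rank)) := [1, a, a * a, b, a * b, a * a * b] with hL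
  have hLnd : L.Nodup := by
    rw [hL, hadef, hbdef]; decide +kernel
  have hsub : ∀ x ∈ L, x ∈ symSet C F := by
    rw [← piHom_range C hD] at ha hb ⊢
    intro x hx
    simp only [hL, List.mem_cons, List.not_mem_nil, or_false] at hx
    rcases hx with rfl | rfl | rfl | rfl | rfl | rfl
    exacts [one_mem _, ha, mul_mem ha ha, hb, mul_mem ha hb, mul_mem (mul_mem ha ha) hb]
  have hcov : ∀ l ∈ ([[0, 1, 2, 3], [0, 1, 3, 2], [2, 1, 0, 3], [2, 1, 3, 0], [3, 1, 0, 2],
      [3, 1, 2, 0]] : List (List ℕ)), ∃ x ∈ L, permList x 4 = l := by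
    rw [hL, hadef, hbdef]; decide +kernel
  have heq : symSet C F = ↑L.toFinset := by
    ext π
    rw [List.coe_toFinset, Set.mem_setOf_eq]
    refine ⟨fun hπ => ?_, hsub π⟩
    have h := adj_cases ext_D4 (adj_of_symSet C hD hπ)
    obtain ⟨x, hx, hxl⟩ := hcov _ h
    rwa [← perm_ext hxl]
  refine ⟨?_, a, ha, b, hb, by rw [hadef, hbdef]; decide +kernel⟩
  rw [heq, Nat.card_coe_set_eq, Set.ncard_coe_finset, List.toFinset_card_of_nodup hLnd]
  rfl

end EA
end H13
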