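import Cfsg.Agent.H13.EA.Out
import Cfsg.Agent.H53.GraphTables
import Cfsg.Agent.H53.ExcTables

/-!
The symmetries of the diagrams and their realisations as automorphisms.
-/

set_option autoImplicit false
set_option linter.unusedSectionVars false
set_option maxRecDepth 4000

open Cfsg.Lie

namespace H13
namespace EA

/-- Adjacency preserving injective lists of length `k`. -/
def ext (D : ChevalleyDatum) : ℕ → List (List ℕ)
  | 0 => [[]]
  | k + 1 => (ext D k).flatMap fun l => (((List.range D.rank).filter fun j =>
      (List.range k).all fun i => l.getD i 0 != j &&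
        (D.cartan i (D.simple k) == 0) == (D.cartan (l.getD i 0) (D.simple j) == 0))).map
          fun j => l ++ [j]

/-- The list of images of a permutation of the nodes. -/
def permList {n : ℕ} (π : Equiv.Perm (Fin n)) (k : ℕ) : List ℕ :=
  (List.range k).map fun i => if h : i < n then (π ⟨i, h⟩).val else 0

theorem permList_getD {n : ℕ} (π : Equiv.Perm (Fin n)) {k i : ℕ} (hi : i < k) (hin : i < n) :
    (permList π k).getD i 0 = (π ⟨i, hin⟩).val := by
  simp [permList, List.getD, List.getElem?_range hi, hin]

theorem permList_mem_ext {D : ChevalleyDatum} {π : Equiv.Perm (Fin D.rank)} (h : Adj D π) :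
    ∀ k ≤ D.rank, permList π k ∈ ext D k := by
  intro k
  induction k with
  | zero => intro _; simp [ext, permList]
  | succ k ih =>
    intro hk
    have hk' : k < D.rank := hk
    simp only [ext, List.mem_flatMap, List.mem_map, List.mem_filter, List.mem_range]
    refine ⟨_, ih hk'.le, (π ⟨k, hk'⟩).val, ⟨(π _).isLt, ?_⟩, ?_⟩
    · rw [List.all_eq_true]
      intro i hi
      rw [List.mem_range] at hi
      have hin : i < D.rank := lt_trans hi hk'
      rw [permList_getD π hi hin]
      have hne : (⟨i, hin⟩ : Fin D.rank) ≠ ⟨k, hk'⟩ := fun e => absurd (congrArg Fin.val e) hi.ne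
      simp only [Bool.and_eq_true, bne_iff_ne, ne_eq, beq_iff_eq]
      refine ⟨fun e => hne (π.injective (Fin.ext e)), ?_⟩
      by_cases h0 : D.cartan i (D.simple k) = 0
      · have h1 := (h _ _ hne).1 h0
        rw [beq_iff_eq.2 h0, beq_iff_eq.2 h1]
      · have h1 := mt (h _ _ hne).2 h0
        rw [beq_eq_false_iff_ne.2 h0, beq_eq_false_iff_ne.2 h1]
    · simp [permList, List.range_succ, hk']

/-- The node permutations of a list of image lists. -/
theorem adj_cases {D : ChevalleyDatum} {L : List (List ℕ)} (hL : ext D D.rank = L)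
    {π : Equiv.Perm (Fin D.rank)} (h : Adj D π) : permList π D.rank ∈ L :=
  hL ▸ permList_mem_ext h _ le_rfl

theorem perm_ext {n : ℕ} {π π' : Equiv.Perm (Fin n)} (h : permList π n = permList π' n) :
    π = π' := by
  ext i
  have := congrArg (fun l => l.getD i.val 0) h
  simp only [permList_getD _ i.isLt i.isLt] at this
  exact this

theorem ext_G2 : ext chevG2 chevG2.rank = [[0, 1], [1, 0]] := by decide +kernel
theorem ext_F4 : ext chevF4 chevF4.rank = [[0, 1, 2, 3], [3, 2, 1, 0]] := by decide +kernel
theorem ext_B2 : ext chevB2 chevB2.rank = [[0, 1], [1, 0]] := by decide +kernel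
theorem ext_E6 : ext chevE6 chevE6.rank = [[0, 1, 2, 3, 4, 5], [5, 1, 4, 3, 2, 0]] := by decide +kernel
theorem ext_E7 : ext chevE7 chevE7.rank = [[0, 1, 2, 3, 4, 5, 6]] := by decide +kernel
theorem ext_E8 : ext chevE8 chevE8.rank = [[0, 1, 2, 3, 4, 5, 6, 7]] := by decide +kernel
theorem ext_D4 : ext chevD4 chevD4.rank =
    [[0, 1, 2, 3], [0, 1, 3, 2], [2, 1, 0, 3], [2, 1, 3, 0], [3, 1, 0, 2], [3, 1, 2, 0]] := by
  decide +kernel

variable {D : ChevalleyDatum} (C : H54.Ctx D) {F : Type*} [Field F]

theorem graphExp_self (p i : ℕ) : D.graphExp p i i = 1 := by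
  simp [ChevalleyDatum.graphExp]

theorem graphExp_flag (p i j : ℕ) : D.graphExp p i j = if flag D i j then p else 1 := rfl

theorem one_mem_symSet : (1 : Equiv.Perm (Fin D.rank)) ∈ symSet C F :=
  ⟨1, fun _ => 1, RingEquiv.refl F, fun i t => by
    constructor <;> simp [graphExp_self]⟩

theorem symSet_spec [Finite F] {m : ℕ} (hD : DiagFacts D m) {π : Equiv.Perm (Fin D.rank)}
    (hπ : π ∈ symSet C F) : PermOK D m π ∧
      ∀ i j : Fin D.rank, i ≠ j → D.cartan i.val (D.simple j.val) = -1 →
        D.cartan (π i).val (D.simple (π j).val) = -(m : ℤ) →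
          ∀ x y : F, (x + y) ^ m = x ^ m + y ^ m := by
  obtain ⟨θ, c, σ, h⟩ := hπ
  obtain ⟨π', c', σ', h1, h2, h3⟩ := exists_param C hD (mem_A0_of_param C h)
  obtain ⟨rfl, -⟩ := HasParam.inj C h h3
  exact ⟨h1, h2⟩

theorem adj_of_symSet [Finite F] {m : ℕ} (hD : DiagFacts D m) {π : Equiv.Perm (Fin D.rank)}
    (hπ : π ∈ symSet C F) : Adj D π := by
  intro i j hij
  have hb := (symSet_spec C hD hπ).1.1 i j hij
  simp only [ChevalleyDatum.bonds] at hb
  constructor
  · intro h
    rw [h, zero_mul] at hb
    rcases mul_eq_zero.1 hb with h1 | h1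
    · exact h1
    · exact (comm_of_cartan_zero (F := F) C hD.diag (π.injective.ne (Ne.symm hij)) h1).1
  · intro h
    rw [h, zero_mul] at hb
    rcases mul_eq_zero.1 hb.symm with h1 | h1
    · exact h1
    · exact (comm_of_cartan_zero (F := F) C hD.diag (Ne.symm hij) h1).1

/-- A symmetry realised with the standard exponents. -/
theorem mem_symSet_of_map {π : Equiv.Perm (Fin D.rank)} (θ : MulAut ↥(D.group F))
    (h : ∀ (i : Fin D.rank) (t : F),
      θ (el C (D.simple i.val) t) = el C (D.simple (π i).val)
          (t ^ D.graphExp (ringChar F) i.val (π i).val) ∧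
      θ (el C (D.neg (D.simple i.val)) t) = el C (D.neg (D.simple (π i).val))
          (t ^ D.graphExp (ringChar F) i.val (π i).val)) : π ∈ symSet C F :=
  ⟨θ, fun _ => 1, RingEquiv.refl F, fun i t => by simpa using h i t⟩

theorem mem_symSet_of_basisSym (S : H53.BasisSym D) (hS : S.Valid) (π : Equiv.Perm (Fin D.rank))
    (hflag : ∀ i : Fin D.rank, flag D i.val (π i).val = false)
    (h : ∀ i : Fin D.rank,
      S.qn (D.simple i.val) = D.simple (π i).val ∧ S.sn (D.simple i.val) = 1 ∧
      S.qn (D.neg (D.simple i.val)) = D.neg (D.simple (π i).val) ∧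
      S.sn (D.neg (D.simple i.val)) = 1) : π ∈ symSet C F := by
  refine mem_symSet_of_map C (S.aut F hS) fun i t => ?_
  obtain ⟨h1, h2, h3, h4⟩ := h i
  rw [graphExp_flag, hflag i, if_neg (by simp), pow_one]
  constructor
  · apply eq_el C
    rw [H53.BasisSym.aut_x hS F _ _ t (C.hC.simple_lt i.isLt) (coe_el_mat C _ _), h1, h2]
    simp
  · apply eq_el C
    rw [H53.BasisSym.aut_x hS F _ _ t (C.hC.neg_lt (C.hC.simple_lt i.isLt)) (coe_el_mat C _ _), h3, h4]
    simp

theorem mem_symSet_of_ideal [Finite F] {k : ℕ} (sp : H53.IdealSpec D k) (hsp : sp.Ok)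
    [CharP F sp.c] (π : Equiv.Perm (Fin D.rank))
    (h : ∀ i : Fin D.rank, ∀ (hh : D.simple i.val < D.nroots)
        (hh' : D.neg (D.simple i.val) < D.nroots),
      (sp.ρ ⟨D.simple i.val, hh⟩).val = D.simple (π i).val ∧
      (sp.ρ ⟨D.neg (D.simple i.val), hh'⟩).val = D.neg (D.simple (π i).val) ∧
      sp.lam ⟨D.simple i.val, hh⟩ = (if flag D i.val (π i).val then sp.c else 1) ∧
      sp.lam ⟨D.neg (D.simple i.val), hh'⟩ = (if flag D i.val (π i).val then sp.c else 1)) :
    π ∈ symSet C F := by
  have hrc : ringChar F = sp.c := ringChar.eq F sp.c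
  have hc : (sp.c : F) = 0 := CharP.cast_eq_zero F sp.c
  have : Fact sp.c.Prime := ⟨hrc ▸ CharP.prime_ringChar F⟩
  have hperf : Function.Surjective fun y : F => y ^ sp.c := fun a => by
    obtain ⟨b, hb⟩ := surjective_frobenius F sp.c a
    exact ⟨b, by simpa [frobenius_def] using hb⟩
  refine mem_symSet_of_map C (sp.graphAut C.hC hsp hc C.W C.hok hperf) fun i t => ?_
  obtain ⟨h1, h2, h3, h4⟩ := h i (C.hC.simple_lt i.isLt) (C.hC.neg_lt (C.hC.simple_lt i.isLt))
  rw [graphExp_flag, hrc]
  constructor
  · have he : el C (D.simple i.val) t = (H53.matSys D F).x ⟨_, C.hC.simple_lt i.isLt⟩ t := rfl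
    rw [he]
    refine (sp.graphAut_x C.hC hsp hc C.W C.hok hperf _ t).trans ?_
    rw [h3]
    apply Subtype.ext
    show H52.rt D (sp.ρ _).val _ = H52.rt D _ _
    rw [h1]
  · have he : el C (D.neg (D.simple i.val)) t =
        (H53.matSys D F).x ⟨_, C.hC.neg_lt (C.hC.simple_lt i.isLt)⟩ t := rfl
    rw [he]
    refine (sp.graphAut_x C.hC hsp hc C.W C.hok hperf _ t).trans ?_
    rw [h4]
    apply Subtype.ext
    show H52.rt D (sp.ρ _).val _ = H52.rt D _ _
    rw [h2]

/-- The exchange of the two nodes of G₂. -/
def g2Swap : Equiv.Perm (Fin chevG2.rank) := Equiv.swap (⟨0, by decide⟩) (⟨1, by decide⟩)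

/-- The reversal of the diagram of F₄. -/
def f4Rev : Equiv.Perm (Fin chevF4.rank) := Fin.revPerm

/-- The symmetry of E₆. -/
def e6Perm : Equiv.Perm (Fin chevE6.rank) := H53.e6Sym.p

theorem symSet_G2 (C : H54.Ctx chevG2) [Finite F] (hq : 3 ≤ Nat.card F) :
    Nat.card (symSet C F) = if ringChar F = 3 then 2 else 1 := by
  have hD := diagFacts_of_mem (D := chevG2) (by simp)
  have hcases : ∀ π ∈ symSet C F, π = 1 ∨ π = g2Swap := by
    intro π hπ
    have h := adj_cases ext_G2 (adj_of_symSet C hD hπ)
    simp only [List.mem_cons, List.not_mem_nil, or_false] at h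
    rcases h with h | h
    · exact Or.inl (perm_ext (h.trans (by decide +kernel)))
    · exact Or.inr (perm_ext (h.trans (by decide +kernel)))
  have hne : g2Swap ≠ 1 := by decide +kernel
  split_ifs with h3
  · have hmem : g2Swap ∈ symSet C F := by
      have : CharP F H53.g2Ideal.c := by
        show CharP F 3
        rw [← h3]; exact ringChar.charP F
      exact mem_symSet_of_ideal C H53.g2Ideal H53.g2Ideal_ok _ (by decide +kernel)
    have : symSet C F = {1, g2Swap} := by
      ext π
      refine ⟨fun h => by simpa using hcases π h, ?_⟩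
      rintro (rfl | rfl)
      exacts [one_mem_symSet C, hmem]
    rw [this, Nat.card_coe_set_eq, Set.ncard_pair (Ne.symm hne)]
  · have : symSet C F = {1} := by
      ext π
      refine ⟨fun h => ?_, by rintro rfl; exact one_mem_symSet C⟩
      refine (hcases π h).resolve_right fun e => ?_
      subst e
      have hex : ∃ i j : Fin chevG2.rank, i ≠ j ∧ chevG2.cartan i.val (chevG2.simple j.val) = -1 ∧
          chevG2.cartan (g2Swap i).val (chevG2.simple (g2Swap j).val) = -(3 : ℤ) := by decide +kernel
      obtain ⟨i, j, hij, hA, hA'⟩ := hex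
      have hadd : ∀ x y : F, (x + y) ^ 3 = x ^ 3 + y ^ 3 :=
        (symSet_spec C hD h).2 i j hij hA hA'
      have hpow := pow_eq_char (Or.inr rfl) hadd
      have hp : (ringChar F).Prime := CharP.prime_ringChar F
      have h6 : ((2 * 3 : ℕ) : F) = 0 := by
        have := hadd 1 1; norm_num at this ⊢; linear_combination this
      rw [ringChar.spec] at h6
      rcases hp.dvd_mul.1 h6 with h2 | h3'
      · have hc := (Nat.prime_dvd_prime_iff_eq hp Nat.prime_two).1 h2
        have h01 : ∀ x : F, x = 0 ∨ x = 1 := by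
          intro x
          have h := hpow x
          rw [hc] at h
          by_cases hx : x = 0
          · exact Or.inl hx
          · right
            apply mul_left_cancel₀ (pow_ne_zero 2 hx)
            linear_combination h
        have hle : Nat.card F ≤ 2 := by
          classical
          have : Fintype F := Fintype.ofFinite F
          rw [Nat.card_eq_fintype_card, ← Finset.card_univ]
          exact le_trans (Finset.card_le_card (t := {0, 1}) fun x _ => by
            simpa using h01 x) Finset.card_le_two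
        omega
      · exact h3 ((Nat.prime_dvd_prime_iff_eq hp Nat.prime_three).1 h3')
    rw [this, Nat.card_coe_set_eq, Set.ncard_singleton]

theorem symSet_F4 (C : H54.Ctx chevF4) [Finite F] :
    Nat.card (symSet C F) = if ringChar F = 2 then 2 else 1 := by
  have hD := diagFacts_of_mem (D := chevF4) (by simp)
  have hcases : ∀ π ∈ symSet C F, π = 1 ∨ π = f4Rev := by
    intro π hπ
    have h := adj_cases ext_F4 (adj_of_symSet C hD hπ)
    simp only [List.mem_cons, List.not_mem_nil, or_false] at h
    rcases h with h | h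
    · exact Or.inl (perm_ext (h.trans (by decide +kernel)))
    · exact Or.inr (perm_ext (h.trans (by decide +kernel)))
  have hne : f4Rev ≠ 1 := by decide +kernel
  split_ifs with h2
  · have hmem : f4Rev ∈ symSet C F := by
      have : CharP F H53.f4Ideal.c := by
        show CharP F 2
        rw [← h2]; exact ringChar.charP F
      exact mem_symSet_of_ideal C H53.f4Ideal H53.f4Ideal_ok _ (by decide +kernel)
    have : symSet C F = {1, f4Rev} := by
      ext π
      refine ⟨fun h => by simpa using hcases π h, ?_⟩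
      rintro (rfl | rfl)
      exacts [one_mem_symSet C, hmem]
    rw [this, Nat.card_coe_set_eq, Set.ncard_pair (Ne.symm hne)]
  · have : symSet C F = {1} := by
      ext π
      refine ⟨fun h => ?_, by rintro rfl; exact one_mem_symSet C⟩
      refine (hcases π h).resolve_right fun e => ?_
      subst e
      have hex : ∃ i j : Fin chevF4.rank, i ≠ j ∧ chevF4.cartan i.val (chevF4.simple j.val) = -1 ∧
          chevF4.cartan (f4Rev i).val (chevF4.simple (f4Rev j).val) = -(2 : ℤ) := by decide +kernel
      obtain ⟨i, j, hij, hA, hA'⟩ := hex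
      have hadd : ∀ x y : F, (x + y) ^ 2 = x ^ 2 + y ^ 2 :=
        (symSet_spec C hD h).2 i j hij hA hA'
      have h22 : ((2 : ℕ) : F) = 0 := by
        have := hadd 1 1; norm_num at this ⊢; linear_combination this
      rw [ringChar.spec] at h22
      exact h2 ((Nat.prime_dvd_prime_iff_eq (CharP.prime_ringChar F) Nat.prime_two).1 h22)
    rw [this, Nat.card_coe_set_eq, Set.ncard_singleton]

theorem symSet_E6 (C : H54.Ctx chevE6) [Finite F] : Nat.card (symSet C F) = 2 := by
  have hD := diagFacts_of_mem (D := chevE6) (by simp)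
  have hcases : ∀ π ∈ symSet C F, π = 1 ∨ π = e6Perm := by
    intro π hπ
    have h := adj_cases ext_E6 (adj_of_symSet C hD hπ)
    simp only [List.mem_cons, List.not_mem_nil, or_false] at h
    rcases h with h | h
    · exact Or.inl (perm_ext (h.trans (by decide +kernel)))
    · exact Or.inr (perm_ext (h.trans (by decide +kernel)))
  have hne : e6Perm ≠ 1 := by decide +kernel
  have hmem : e6Perm ∈ symSet C F :=
    mem_symSet_of_basisSym C H53.e6Sym H53.e6Sym_valid _ (by decide +kernel) (by decide +kernel)
  have : symSet C F = {1, e6Perm} := by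
    ext π
    refine ⟨fun h => by simpa using hcases π h, ?_⟩
    rintro (rfl | rfl)
    exacts [one_mem_symSet C, hmem]
  rw [this, Nat.card_coe_set_eq, Set.ncard_pair (Ne.symm hne)]

theorem symSet_E7 (C : H54.Ctx chevE7) [Finite F] : Nat.card (symSet C F) = 1 := by
  have hD := diagFacts_of_mem (D := chevE7) (by simp)
  have : symSet C F = {1} := by
    ext π
    refine ⟨fun hπ => ?_, by rintro rfl; exact one_mem_symSet C⟩
    have h := adj_cases ext_E7 (adj_of_symSet C hD hπ)
    rw [List.mem_singleton] at h
    exact perm_ext (h.trans (by decide +kernel))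
  rw [this, Nat.card_coe_set_eq, Set.ncard_singleton]

theorem symSet_E8 (C : H54.Ctx chevE8) [Finite F] : Nat.card (symSet C F) = 1 := by
  have hD := diagFacts_of_mem (D := chevE8) (by simp)
  have : symSet C F = {1} := by
    ext π
    refine ⟨fun hπ => ?_, by rintro rfl; exact one_mem_symSet C⟩
    have h := adj_cases ext_E8 (adj_of_symSet C hD hπ)
    rw [List.mem_singleton] at h
    exact perm_ext (h.trans (by decide +kernel))
  rw [this, Nat.card_coe_set_eq, Set.ncard_singleton]

end EA
end H13
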