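import Cfsg.Agent.H13.EA.TwNorm
import Cfsg.Agent.H13.EA.Auts
import Cfsg.Agent.H33.TwoSubspaces
import Cfsg.Prelude.Def_KGroupFacts

/-!
The automorphisms of a twisted group fixing `U¹` and `V¹`, and the order of the outer
automorphism group.
-/

set_option autoImplicit false
set_option linter.unusedSectionVars false

open Cfsg.Lie
open H53.RootGroupSys
open scoped MatrixGroups

namespace H13
namespace EA

variable {D D' : ChevalleyDatum} {Fl : H52.Fold D D'} {T : H52.Tables} {K : Type*} [Field K]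
  {X : H52.Twist Fl T K} {q : ℕ} {J₀ : Fin D'.rank}

/-- The constants of a parameter spread over the fundamental roots. -/
noncomputable def ccOf (c : ∀ J, (dom X J)ˣ) (j : Fin D.rank) : Kˣ :=
  Units.mk0 (vec X (Classical.choose (X.fval.orb_cover j))
      (c (Classical.choose (X.fval.orb_cover j))).1.1 j)
    (dom_ne_zero X (a := (c (Classical.choose (X.fval.orb_cover j))).1)
      (c (Classical.choose (X.fval.orb_cover j))).ne_zero j)

theorem coe_ccOf (c : ∀ J, (dom X J)ˣ) {J : Fin D'.rank} {j : Fin D.rank} (hj : j ∈ Fl.orb J) :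
    (ccOf c j : K) = vec X J (c J).1.1 j := by
  have hJ := X.orb_unique (Classical.choose_spec (X.fval.orb_cover j)) hj
  show vec X _ _ j = _
  rw [hJ]

/-- The diagonal times field map on the general linear group. -/
noncomputable def twHom (c : ∀ J, (dom X J)ˣ) (σ : K ≃+* K) : GL D.Idx K →* GL D.Idx K :=
  (MulAut.conj (H52.dgR D (chiOf (ctxBig X) (ccOf c)))).toMonoidHom.comp
    (H54.glF D σ.toRingHom)

theorem twHom_injective (c : ∀ J, (dom X J)ˣ) (σ : K ≃+* K) : Function.Injective (twHom c σ) :=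
  (MulAut.conj (H52.dgR D (chiOf (ctxBig X) (ccOf c)))).injective.comp
    (H54.glF_injective σ.toRingHom)

theorem twHom_rt (c : ∀ J, (dom X J)ˣ) (σ : K ≃+* K) (r : Fin D.nroots) (t : K) :
    twHom c σ (H52.rt D r.val t) =
      H52.rt D r.val ((chiOf (ctxBig X) (ccOf c) r.val : K) * σ t) := by
  show MulAut.conj _ (H54.glF D σ.toRingHom _) = _
  rw [(ctxBig X).glF_rt, MulAut.conj_apply]
  exact X.chk.dgR_conj_rt (chiOf_isChar (ctxBig X) (ccOf c)) r.isLt _

variable (hF : TwFacts X q J₀)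
include hF

theorem twHom_gen (c : ∀ J, (dom X J)ˣ) (σ : K ≃+* K) (J : Fin D'.rank) (a : dom X J) :
    twHom c σ (xg X J a : GL D.Idx K) = (xg X J ((c J).1 * domMap hF σ J a) : GL D.Idx K) ∧
      twHom c σ (yg X J a : GL D.Idx K) =
        (yg X J (((c J)⁻¹).1 * domMap hF σ J a) : GL D.Idx K) := by
  constructor
  · rw [coe_xg, coe_xg, H52.Twist.xp, H52.Twist.xp, map_list_prod, List.map_map]
    refine congrArg List.prod (List.map_congr_left fun j hj => ?_)
    rw [Function.comp_apply, twHom_rt, X.sp_val, (chiOf_simple (ctxBig X) (ccOf c) j).1,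
      coe_ccOf c hj]
    congr 1
    simp only [vec, domMap, Subfield.coe_mul, map_mul, fk_comm hF]
  · rw [coe_yg, coe_yg, H52.Twist.xp, H52.Twist.xp, map_list_prod, List.map_map]
    refine congrArg List.prod (List.map_congr_left fun j hj => ?_)
    rw [Function.comp_apply, twHom_rt, X.sn_val, X.sp_val, (chiOf_simple (ctxBig X) (ccOf c) j).2,
      Units.val_inv_eq_inv_val, coe_ccOf c hj]
    congr 1
    simp only [vec, domMap, Subfield.coe_mul, Units.val_inv_eq_inv_val, Subfield.coe_inv, map_mul,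
      map_inv₀, fk_comm hF]

theorem twHom_map_le (c : ∀ J, (dom X J)ˣ) (σ : K ≃+* K) : X.grp.map (twHom c σ) ≤ X.grp := by
  rw [Subgroup.map_le_iff_le_comap, H52.Twist.grp, Subgroup.closure_le]
  rintro g ⟨J, hg | hg⟩
  · obtain ⟨a, ha⟩ := exists_xg X (g := ⟨g, X.E_le_grp _ hg⟩) (J := J) hg
    rw [SetLike.mem_coe, Subgroup.mem_comap, show g = (xg X J a : GL D.Idx K) from
      congrArg Subtype.val ha, (twHom_gen hF c σ J a).1]
    exact (xg X J _).2
  · obtain ⟨a, ha⟩ := exists_yg X (g := ⟨g, X.E_le_grp _ hg⟩) (J := J) hg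
    rw [SetLike.mem_coe, Subgroup.mem_comap, show g = (yg X J a : GL D.Idx K) from
      congrArg Subtype.val ha, (twHom_gen hF c σ J a).2]
    exact (yg X J _).2

/-- The restricted map. -/
noncomputable def twEnd (c : ∀ J, (dom X J)ˣ) (σ : K ≃+* K) : ↥X.grp →* ↥X.grp :=
  ((twHom c σ).comp X.grp.subtype).codRestrict X.grp fun g =>
    twHom_map_le hF c σ ⟨g.1, g.2, rfl⟩

theorem coe_twEnd (c : ∀ J, (dom X J)ˣ) (σ : K ≃+* K) (g : ↥X.grp) :
    (twEnd hF c σ g : GL D.Idx K) = twHom c σ (g : GL D.Idx K) := rfl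

variable [Finite K]

theorem twEnd_bijective (c : ∀ J, (dom X J)ˣ) (σ : K ≃+* K) :
    Function.Bijective (twEnd hF c σ) :=
  Finite.injective_iff_bijective.1 fun a b h =>
    Subtype.ext (twHom_injective c σ (by rw [← coe_twEnd hF, ← coe_twEnd hF, h]))

/-- The automorphism of given parameters. -/
noncomputable def twAut (c : ∀ J, (dom X J)ˣ) (σ : K ≃+* K) : ↥X.grp ≃* ↥X.grp :=
  MulEquiv.ofBijective (twEnd hF c σ) (twEnd_bijective hF c σ)

theorem twAut_param (c : ∀ J, (dom X J)ˣ) (σ : K ≃+* K) : TParam hF (twAut hF c σ) c σ :=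
  fun J a => ⟨Subtype.ext (twHom_gen hF c σ J a).1, Subtype.ext (twHom_gen hF c σ J a).2⟩

theorem twAut_U (c : ∀ J, (dom X J)ˣ) (σ : K ≃+* K) :
    X.sys.Uplus.map (twAut hF c σ).toMonoidHom = X.sys.Uplus ∧
      X.sys.Uminus.map (twAut hF c σ).toMonoidHom = X.sys.Uminus := by
  have hP : ∀ S, ∀ g : ↥X.grp, g ∈ X.sys.U S → twAut hF c σ g ∈ X.sys.U S := by
    intro S g hg
    have hle : (H52.Twist.P Fl K S).map (twHom c σ) ≤ H52.Twist.P Fl K S := by
      rw [H52.Twist.P, H52.genBy, MonoidHom.map_closure, Subgroup.closure_le]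
      rintro _ ⟨_, ⟨r, t, ⟨hr, hcls⟩, rfl⟩, rfl⟩
      rw [twHom_rt c σ ⟨r, hr⟩]
      exact H52.Twist.mem_P hcls _
    exact Subgroup.mem_inf.2 ⟨hle ⟨g.1, (X.mem_U'.1 hg).1, rfl⟩,
      X.grp_le_fixed (twAut hF c σ g).2⟩
  have key : ∀ (p : Fin D'.nroots → Prop),
      (Subgroup.closure {g : ↥X.grp | ∃ S, p S ∧ g ∈ X.sys.U S}).map
          (twAut hF c σ).toMonoidHom =
        Subgroup.closure {g : ↥X.grp | ∃ S, p S ∧ g ∈ X.sys.U S} := by
    intro p
    refine Subgroup.eq_of_le_of_card_ge ?_ ?_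
    · rw [MonoidHom.map_closure, Subgroup.closure_le]
      rintro _ ⟨g, ⟨S, hS, hg⟩, rfl⟩
      exact Subgroup.subset_closure ⟨S, hS, hP S g hg⟩
    · exact (Subgroup.card_map_of_injective (twAut hF c σ).injective).ge
  exact ⟨key X.sys.pos, key fun S => ¬ X.sys.pos S⟩

omit hF in
theorem text {θ θ' : ↥X.grp ≃* ↥X.grp}
    (h : ∀ J (a : dom X J), θ (xg X J a) = θ' (xg X J a) ∧ θ (yg X J a) = θ' (yg X J a)) :
    θ = θ' := by
  refine MulEquiv.ext fun g => ?_
  obtain ⟨g, hg⟩ := g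
  refine Subgroup.closure_induction (p := fun g hg => θ ⟨g, hg⟩ = θ' ⟨g, hg⟩) ?_ ?_ ?_ ?_ hg
  · rintro g ⟨J, hg' | hg'⟩
    · obtain ⟨a, ha⟩ := exists_xg X (g := ⟨g, X.E_le_grp _ hg'⟩) (J := J) hg'
      rw [show (⟨g, _⟩ : ↥X.grp) = xg X J a from ha]
      exact (h J a).1
    · obtain ⟨a, ha⟩ := exists_yg X (g := ⟨g, X.E_le_grp _ hg'⟩) (J := J) hg'
      rw [show (⟨g, _⟩ : ↥X.grp) = yg X J a from ha]
      exact (h J a).2
  · exact (map_one θ).trans (map_one θ').symm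
  · intro a b ha hb h1 h2
    have e : (⟨a * b, mul_mem ha hb⟩ : ↥X.grp) = ⟨a, ha⟩ * ⟨b, hb⟩ := rfl
    rw [e, map_mul, map_mul, h1, h2]
  · intro a ha h1
    have e : (⟨a⁻¹, inv_mem ha⟩ : ↥X.grp) = (⟨a, ha⟩ : ↥X.grp)⁻¹ := rfl
    rw [e, map_inv, map_inv, h1]

theorem tparam_unique {θ : ↥X.grp ≃* ↥X.grp} {c : ∀ J, (dom X J)ˣ} {σ : K ≃+* K}
    (h : TParam hF θ c σ) : θ = twAut hF c σ :=
  text fun J a => ⟨by rw [(h J a).1, (twAut_param hF c σ J a).1],
    by rw [(h J a).2, (twAut_param hF c σ J a).2]⟩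

theorem twAut_injective :
    Function.Injective fun p : (∀ J, (dom X J)ˣ) × (K ≃+* K) => twAut hF p.1 p.2 := by
  rintro ⟨c, σ⟩ ⟨c', σ'⟩ h
  have h' : twAut hF c σ = twAut hF c' σ' := h
  have key : ∀ J (a : dom X J),
      (c J).1 * domMap hF σ J a = (c' J).1 * domMap hF σ' J a := fun J a =>
    xg_inj X (by rw [← (twAut_param hF c σ J a).1, ← (twAut_param hF c' σ' J a).1, h'])
  obtain rfl : c = c' := funext fun J => by
    have h1 := key J 1
    have e : ∀ τ : K ≃+* K, domMap hF τ J 1 = 1 := fun τ => Subtype.ext (map_one τ)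
    rw [e, e, mul_one, mul_one] at h1
    exact Units.ext h1
  refine Prod.ext rfl (RingEquiv.ext fun a => ?_)
  exact congrArg Subtype.val
    (mul_left_cancel₀ (c J₀).ne_zero (key J₀ ⟨a, hF.full a⟩))

omit hF [Finite K] in
/-- The automorphisms fixing `U¹` and `V¹`. -/
noncomputable def tA0 (X : H52.Twist Fl T K) : Subgroup (MulAut ↥X.grp) where
  carrier := {φ | X.sys.Uplus.map φ.toMonoidHom = X.sys.Uplus ∧
    X.sys.Uminus.map φ.toMonoidHom = X.sys.Uminus}
  one_mem' := ⟨by ext; simp, by ext; simp⟩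
  mul_mem' := by
    rintro φ ψ ⟨h1, h2⟩ ⟨h3, h4⟩
    have key : ∀ W : Subgroup ↥X.grp, W.map (φ * ψ).toMonoidHom =
        (W.map ψ.toMonoidHom).map φ.toMonoidHom := fun W => by rw [Subgroup.map_map]; rfl
    exact ⟨by rw [key, h3, h1], by rw [key, h4, h2]⟩
  inv_mem' := by
    rintro φ ⟨h1, h2⟩
    have key : ∀ W : Subgroup ↥X.grp, W.map φ.toMonoidHom = W →
        W.map (φ⁻¹).toMonoidHom = W := by
      intro W h
      conv_lhs => rw [← h]
      rw [Subgroup.map_map]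
      ext x; simp
    exact ⟨key _ h1, key _ h2⟩

theorem card_tA0 :
    Nat.card (tA0 X) = (∏ J : Fin D'.rank, (q ^ (Fl.orb J).length - 1)) * Nat.card (K ≃+* K) := by
  let Φ : (∀ J, (dom X J)ˣ) × (K ≃+* K) → tA0 X := fun p =>
    ⟨twAut hF p.1 p.2, twAut_U hF p.1 p.2⟩
  have hbij : Function.Bijective Φ := by
    refine ⟨fun a b h => twAut_injective hF (congrArg Subtype.val h), ?_⟩
    rintro ⟨θ, hθ⟩
    obtain ⟨c, σ, h⟩ := tnormal_form hF θ hθ.1 hθ.2
    exact ⟨(c, σ), Subtype.ext (tparam_unique hF h).symm⟩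
  rw [← Nat.card_eq_of_bijective Φ hbij, Nat.card_prod, Nat.card_pi]
  congr 1
  refine Finset.prod_congr rfl fun J _ => ?_
  rw [Nat.card_units, card_dom hF]

omit hF

/-- The map from `tA0` to the outer automorphism group. -/
noncomputable def ttoOut (X : H52.Twist Fl T K) : ↥(tA0 X) →* Cfsg.Out ↥X.grp :=
  (QuotientGroup.mk' (Cfsg.Inn ↥X.grp)).comp (tA0 X).subtype

theorem ttoOut_surjective : Function.Surjective (ttoOut X) := by
  intro φ
  obtain ⟨φ, rfl⟩ := QuotientGroup.mk'_surjective _ φ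
  have : Fintype K := Fintype.ofFinite K
  have : Fact (ringChar K).Prime := ⟨CharP.prime_ringChar K⟩
  have : CharP K (ringChar K) := ringChar.charP K
  obtain ⟨x, hx⟩ := exists_tfix X (ringChar K) φ
  refine ⟨⟨MulAut.conj x⁻¹ * φ, hx⟩, ?_⟩
  show QuotientGroup.mk' _ (MulAut.conj x⁻¹ * φ) = _
  rw [map_mul, show QuotientGroup.mk' (Cfsg.Inn ↥X.grp) (MulAut.conj x⁻¹) = 1 from
    (QuotientGroup.eq_one_iff _).2 ⟨x⁻¹, rfl⟩, one_mul]

theorem conj_mem_tA0_iff (g : ↥X.grp) : MulAut.conj g ∈ tA0 X ↔ g ∈ X.sys.H :=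
  ⟨fun h => Frame.mem_H (tframe_hyp X) h.1 h.2,
    fun h => ⟨(tframe_hyp X).H_U g h, (tframe_hyp X).H_V g h⟩⟩

theorem card_tout : Nat.card (Cfsg.Out ↥X.grp) * Nat.card ↥X.torusT = Nat.card (tA0 X) := by
  have h1 := (ttoOut X).ker.index_mul_card
  rw [Subgroup.index_ker, MonoidHom.range_eq_top.2 ttoOut_surjective, Subgroup.card_top] at h1
  rw [← h1]
  congr 1
  let e : ↥X.sys.H → ↥(ttoOut X).ker := fun g =>
    ⟨⟨MulAut.conj g.1, (conj_mem_tA0_iff g.1).2 g.2⟩, (QuotientGroup.eq_one_iff _).2 ⟨g.1, rfl⟩⟩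
  have hbij : Function.Bijective e := by
    constructor
    · intro a b hab
      have h : MulAut.conj a.1 = MulAut.conj b.1 :=
        congrArg (fun z : ↥(ttoOut X).ker => ((z : tA0 X) : MulAut ↥X.grp)) hab
      set d := a.1⁻¹ * b.1 with hd
      have h2 : MulAut.conj d = 1 := by rw [hd, map_mul, map_inv, h, inv_mul_cancel]
      have hB : d ∈ X.pair.B := H_le_B (mul_mem (inv_mem a.2) b.2)
      have hcore : d ∈ X.pair.B.normalCore := fun y => by
        have h3 : d * y * d⁻¹ = y := by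
          rw [← MulAut.conj_apply, h2]; rfl
        rwa [mul_inv_eq_iff_eq_mul.1 (show y * d * y⁻¹ = d by
          rw [mul_inv_eq_iff_eq_mul]; exact (mul_inv_eq_iff_eq_mul.1 h3).symm), mul_inv_cancel_right]
      rw [X.normalCore_B', Subgroup.mem_bot] at hcore
      exact Subtype.ext (inv_mul_eq_one.1 hcore)
    · rintro ⟨⟨φ, hφ⟩, hker⟩
      obtain ⟨g, rfl⟩ := (QuotientGroup.eq_one_iff _).1 hker
      exact ⟨⟨g, (conj_mem_tA0_iff g).1 hφ⟩, rfl⟩
  rw [← Nat.card_eq_of_bijective e hbij]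
  exact (Nat.card_congr (Subgroup.subgroupOfEquivOfLe X.torusT_le_grp).toEquiv).symm

/-- The order of the outer automorphism group, up to the torus. -/
theorem card_tout_mul (hF : TwFacts X q J₀) {p n : ℕ} [Fact p.Prime] (hK : Nat.card K = p ^ n) :
    Nat.card (Cfsg.Out ↥X.grp) * Nat.card ↥X.torusT =
      (∏ J : Fin D'.rank, (q ^ (Fl.orb J).length - 1)) * n := by
  rw [card_tout, card_tA0 hF, H33.TwoSub.card_ringEquiv (p := p) K hK]

end EA
end H13
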