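import Cfsg.Agent.H13.EA.TwAuts

/-!
Automorphisms of a twisted group over the field with four elements moving the rational subgroup
into the fixed points of the field automorphism.
-/

set_option autoImplicit false
set_option linter.unusedSectionVars false

open Cfsg.Lie
open H53 (RootGroupSys)
open H53.RootGroupSys

namespace H13
namespace EA

/-! ### Regular elements of `U`. -/

section Sys

variable {G ι R : Type*} [Group G] {S : RootGroupSys G ι R} (hS : S.Axioms)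
  (hsep : RootGroupSys.Sep S)
include hS hsep

theorem sys_Ua_inf_Uhat (i : ι) {x : G} (hx : x ∈ S.U (S.a i)) (hx' : x ∈ S.Uhat i) : x = 1 := by
  have h1 := Uhat_le_Uplus i (n_conj_Uhat hS i hx')
  have h2 : S.n i * x * (S.n i)⁻¹ ∈ S.U (S.neg (S.a i)) := by
    have := acts_conj_mem (acts_n hS i) hx
    rwa [hS.sigma_a] at this
  have h3 : S.n i * x * (S.n i)⁻¹ ∈ S.B ⊓ S.Uminus :=
    Subgroup.mem_inf.2 ⟨Uplus_le_B h1, Subgroup.subset_closure ⟨_, pos_neg_a hS i, h2⟩⟩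
  rw [hsep.B_V, Subgroup.mem_bot, conj_eq_one_iff] at h3
  exact h3

theorem sys_mem_Uhat [Finite R] (i : ι) {w u : G} {π : Equiv.Perm R} (hπ : S.Acts w π)
    (hi : ¬ S.pos (π (S.a i))) (hu : u ∈ S.Uplus) (hwu : w * u * w⁻¹ ∈ S.Uplus) :
    u ∈ S.Uhat i := by
  have hacts : S.Acts (w * S.n i) (π * S.σ i) := acts_mul hπ (acts_n hS i)
  have hpa : S.pos ((π * S.σ i) (S.a i)) := by
    rw [Equiv.Perm.mul_apply, hS.sigma_a, W_neg hS hπ.1, hS.pos_neg]; exact hi
  obtain ⟨v, hv, x, hx, rfl⟩ := Uplus_split hS i hu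
  obtain ⟨p, hp, r, hr, he, hwp⟩ :=
    Uplus_factor hS hacts (Uhat_le_Uplus i (n_inv_conj_Uhat hS i hv))
  have hrhat : r ∈ S.Uhat i := by
    refine (Subgroup.closure_le _).2 ?_ hr
    rintro g ⟨s, hs, hs', hg⟩
    exact U_le_Uhat hs (fun e => hs' (e ▸ hpa)) hg
  have hr' : S.n i * r * (S.n i)⁻¹ ∈ S.Uinv π := by
    have : (S.Uinv (π * S.σ i)).map (MulAut.conj (S.n i)).toMonoidHom ≤ S.Uinv π := by
      rw [RootGroupSys.Uinv, MonoidHom.map_closure, Subgroup.closure_le]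
      rintro _ ⟨g, ⟨s, hs, hs', hg⟩, rfl⟩
      exact Subgroup.subset_closure ⟨S.σ i s, hS.sigma_pos i s hs fun e => hs' (e ▸ hpa), hs',
        acts_conj_mem (acts_n hS i) hg⟩
    exact this ⟨r, hr, rfl⟩
  set z := S.n i * r * (S.n i)⁻¹ * x
  have hz : z ∈ S.Uinv π := mul_mem hr' (Subgroup.subset_closure ⟨S.a i, hS.pos_a i, hi, hx⟩)
  have hv' : v = S.n i * (p * r) * (S.n i)⁻¹ := by rw [← he]; group
  have hwz : w * z * w⁻¹ ∈ S.B ⊓ S.Uminus := by
    refine Subgroup.mem_inf.2 ⟨Uplus_le_B ?_, conj_Uinv hπ hz⟩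
    have e : w * z * w⁻¹ = (w * S.n i * p * (w * S.n i)⁻¹)⁻¹ * (w * (v * x) * w⁻¹) := by
      rw [hv']; simp only [z]; group
    rw [e]
    exact mul_mem (inv_mem hwp) hwu
  rw [hsep.B_V, Subgroup.mem_bot, conj_eq_one_iff] at hwz
  have hx1 : x ∈ S.Uhat i := by
    rw [show x = (S.n i * r * (S.n i)⁻¹)⁻¹ from eq_inv_of_mul_eq_one_right hwz]
    exact inv_mem (n_conj_Uhat hS i hrhat)
  exact mul_mem hv hx1

/-- A regular element lies in one conjugate of `U` only. -/
theorem sys_unique_conj [Finite R] {g u : G} (hu : u ∈ S.Uplus) (hreg : ∀ i, u ∉ S.Uhat i)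
    (hg : u ∈ S.Uplus.map (MulAut.conj g).toMonoidHom) :
    S.Uplus.map (MulAut.conj g).toMonoidHom = S.Uplus := by
  obtain ⟨b, hb, w, hw, π, hπ, v, -, rfl, he⟩ := sys_nf_map hS hsep g
  rw [he] at hg ⊢
  obtain ⟨z, ⟨y, hy, rfl⟩, rfl⟩ := hg
  simp only [MulEquiv.coe_toMonoidHom, MulAut.conj_apply] at hu hreg
  set z := w * y * w⁻¹
  have hzU : z ∈ S.Uplus := by
    have h := hu
    rw [← sys_map_B hS hsep hb] at h
    obtain ⟨t, ht, hte⟩ := h
    exact (MulAut.conj b).injective hte ▸ ht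
  have hnorm : ∀ i, z ∈ S.Uhat i → b * z * b⁻¹ ∈ S.Uhat i := by
    intro i hi
    obtain ⟨a, ha, h, hh, rfl⟩ := mem_B hS hb
    obtain ⟨a1, ha1, x, hx, rfl⟩ := Uplus_split hS i ha
    have := mul_mem (mul_mem ha1 (Ua_conj_Uhat hS i hx (H_conj_Uhat hS i hh hi))) (inv_mem ha1)
    simpa [mul_assoc] using this
  have hback : w⁻¹ * z * w⁻¹⁻¹ ∈ S.Uplus := by
    rwa [show w⁻¹ * z * w⁻¹⁻¹ = y by simp only [z]; group]
  have h1 : π⁻¹ = 1 := by
    refine hsep.fix _ (acts_inv hπ).1 fun r hr => ?_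
    by_contra hn
    obtain ⟨i, hi⟩ := hS.descent π⁻¹ (acts_inv hπ).1 ⟨r, hr, hn⟩
    exact hreg i (hnorm i (sys_mem_Uhat hS hsep i (acts_inv hπ) hi hzU hback))
  obtain rfl : π = 1 := inv_eq_one.1 h1
  rw [sys_map_B hS hsep (H_le_B (mem_H_of_acts_one hS hsep hw hπ)), sys_map_B hS hsep hb]

theorem sys_prod_not_mem_Uhat {x : ι → G} (hx : ∀ j, x j ∈ S.U (S.a j)) (i : ι) :
    ∀ l : List ι, l.Nodup → ((i ∉ l → (l.map x).prod ∈ S.Uhat i) ∧
      (i ∈ l → (l.map x).prod ∈ S.Uhat i → x i = 1)) := by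
  intro l
  induction l with
  | nil => exact fun _ => ⟨fun _ => by simp, fun h => by simp at h⟩
  | cons j l ih =>
    intro hnd
    obtain ⟨hj, hnd⟩ := List.nodup_cons.1 hnd
    obtain ⟨h1, h2⟩ := ih hnd
    have hne : j ≠ i → x j ∈ S.Uhat i := fun h =>
      U_le_Uhat (hS.pos_a j) (fun e => h (hsep.a_inj e)) (hx j)
    rw [List.map_cons, List.prod_cons]
    refine ⟨fun hi => ?_, fun hi hp => ?_⟩
    · rw [List.mem_cons, not_or] at hi
      exact mul_mem (hne (Ne.symm hi.1)) (h1 hi.2)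
    · by_cases hji : j = i
      · subst hji
        exact sys_Ua_inf_Uhat hS hsep j (hx j) ((Subgroup.mul_mem_cancel_right _ (h1 hj)).1 hp)
      · rcases List.mem_cons.1 hi with h | h
        · exact absurd h.symm hji
        · exact h2 h ((Subgroup.mul_mem_cancel_left _ (hne hji)).1 hp)

end Sys

/-! ### The rational subgroup. -/

variable {D D' : ChevalleyDatum} {Fl : H52.Fold D D'} {T : H52.Tables} {K : Type*} [Field K]
  [Finite K] {X : H52.Twist Fl T K} {q : ℕ} {J₀ : Fin D'.rank}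

/-- The subgroup generated by the fundamental root elements of parameter one. -/
noncomputable def ratSub (X : H52.Twist Fl T K) : Subgroup ↥X.grp :=
  Subgroup.closure {g | ∃ J, g = xg X J 1 ∨ g = yg X J 1}

theorem xg_one_mem (X : H52.Twist Fl T K) (J : Fin D'.rank) : xg X J 1 ∈ ratSub X :=
  Subgroup.subset_closure ⟨J, Or.inl rfl⟩

theorem n_mem_ratSub (X : H52.Twist Fl T K) (J : Fin D'.rank) : X.sys.n J ∈ ratSub X := by
  have h : ng X J 1 = X.sys.n J := Subtype.ext (by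
    rw [coe_ng]
    show H52.Twist.nJ Fl J _ = H52.Twist.nOne Fl K J
    rw [H52.Twist.nOne]
    congr 1
    funext j
    simp [vec])
  rw [← h, ng, inv_one, ← yg_inv]
  exact mul_mem (mul_mem (xg_one_mem X J)
    (inv_mem (Subgroup.subset_closure ⟨J, Or.inr rfl⟩))) (xg_one_mem X J)

variable (hF : TwFacts X q J₀)
include hF

theorem domMap_one (σ : K ≃+* K) (J : Fin D'.rank) : domMap hF σ J 1 = 1 :=
  Subtype.ext (map_one σ)

theorem twAut_mul (c d : ∀ J, (dom X J)ˣ) (τ : K ≃+* K) :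
    twAut hF c 1 * twAut hF d τ = twAut hF (c * d) τ := by
  refine tparam_unique hF fun J a => ?_
  have e : ∀ b : dom X J, domMap hF (1 : K ≃+* K) J b = b := fun b => Subtype.ext rfl
  constructor
  · rw [MulAut.mul_apply, (twAut_param hF d τ J a).1, (twAut_param hF c 1 J _).1, e, Pi.mul_apply,
      Units.val_mul, mul_assoc]
  · rw [MulAut.mul_apply, (twAut_param hF d τ J a).2, (twAut_param hF c 1 J _).2, e, Pi.mul_apply,
      mul_inv, Units.val_mul, mul_assoc]

/-- The diagonal automorphisms in the outer automorphism group. -/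
noncomputable def diagOut : (∀ J, (dom X J)ˣ) →* Cfsg.Out ↥X.grp :=
  MonoidHom.mk' (fun c => QuotientGroup.mk' (Cfsg.Inn ↥X.grp) (twAut hF c 1)) fun c d => by
    rw [← map_mul, twAut_mul]

/-- An inner automorphism fixing `U¹` and `V¹` is diagonal. -/
theorem conj_H_eq {y : ↥X.grp} (hy : y ∈ X.sys.H) :
    ∃ e : ∀ J, (dom X J)ˣ, MulAut.conj y = twAut hF e 1 := by
  obtain ⟨e, σ, h⟩ := tnormal_form hF (MulAut.conj y) ((conj_mem_tA0_iff y).2 hy).1
    ((conj_mem_tA0_iff y).2 hy).2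
  suffices σ = 1 by subst this; exact ⟨e, tparam_unique hF h⟩
  obtain ⟨t, -, ht⟩ := (hy : (y : GL D.Idx K) ∈ X.torusT)
  rw [Subgroup.coe_subtype] at ht
  obtain ⟨k, hk⟩ : ∃ k : K, ∀ a : dom X J₀, (e J₀).1.1 * σ a.1 = k * a.1 := by
    refine ⟨((∏ i : Fin D.rank, t i ^ D.cartan i.val (Fl.sp (base X J₀)).val : Kˣ) : K),
      fun a => ?_⟩
    have h1 := congrArg Subtype.val (h J₀ a).1
    rw [MulAut.conj_apply, Subgroup.coe_mul, Subgroup.coe_mul, Subgroup.coe_inv, ← ht, coe_xg,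
      coe_xg, X.torus_conj_xp] at h1
    have h2 := X.xp_p_injective h1 _ (base_mem X J₀)
    rw [vec_base, vec_base, Subfield.coe_mul] at h2
    exact h2.symm
  have h1 := hk 1
  rw [Subfield.coe_one, map_one, mul_one, mul_one] at h1
  refine RingEquiv.ext fun a => ?_
  have h2 := hk ⟨a, hF.full a⟩
  rw [← h1] at h2
  exact mul_left_cancel₀ (fun he => (e J₀).ne_zero (Subtype.ext he)) h2

theorem diagOut_eq_field {c : ∀ J, (dom X J)ˣ} {σ : K ≃+* K}
    (h : diagOut hF c = QuotientGroup.mk' (Cfsg.Inn ↥X.grp) (twAut hF 1 σ)) : diagOut hF c = 1 := by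
  obtain ⟨y, hy⟩ := (QuotientGroup.eq).1 h
  have hmem : MulAut.conj y ∈ tA0 X := by
    rw [show MulAut.conj y = (twAut hF c 1)⁻¹ * twAut hF 1 σ from hy]
    exact mul_mem (inv_mem (twAut_U hF c 1)) (twAut_U hF 1 σ)
  obtain ⟨e, he⟩ := conj_H_eq hF ((conj_mem_tA0_iff y).1 hmem)
  have h2 : twAut hF (c * e) 1 = twAut hF 1 σ := by
    rw [← twAut_mul, ← he, show MulAut.conj y = (twAut hF c 1)⁻¹ * twAut hF 1 σ from hy,
      mul_inv_cancel_left]
  obtain rfl : (1 : K ≃+* K) = σ :=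
    congrArg Prod.snd (twAut_injective hF (a₁ := (c * e, 1)) (a₂ := (1, σ)) h2)
  rw [h]
  exact map_one (diagOut hF)

theorem card_diagOut :
    (∏ J : Fin D'.rank, (q ^ (Fl.orb J).length - 1)) ≤
      Nat.card (diagOut hF).range * Nat.card ↥X.torusT := by
  have hcard : Nat.card (∀ J, (dom X J)ˣ) = ∏ J : Fin D'.rank, (q ^ (Fl.orb J).length - 1) := by
    rw [Nat.card_pi]
    exact Finset.prod_congr rfl fun J _ => by rw [Nat.card_units, card_dom hF]
  rw [← hcard, ← (diagOut hF).ker.index_mul_card, Subgroup.index_ker]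
  refine Nat.mul_le_mul_left _ ?_
  have hex : ∀ c : (diagOut hF).ker, ∃ y : X.sys.H, MulAut.conj y.1 = twAut hF c.1 1 := by
    rintro ⟨c, hc⟩
    obtain ⟨y, hy⟩ := (QuotientGroup.eq_one_iff _).1 hc
    exact ⟨⟨y, (conj_mem_tA0_iff y).1 (hy ▸ twAut_U hF c 1)⟩, hy⟩
  choose f hf using hex
  calc Nat.card (diagOut hF).ker ≤ Nat.card X.sys.H :=
        Nat.card_le_card_of_injective f fun a b hab => Subtype.ext <| congrArg Prod.fst
          (twAut_injective hF (a₁ := (a.1, 1)) (a₂ := (b.1, 1))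
            ((hf a).symm.trans ((congrArg (fun y => MulAut.conj (Subtype.val y)) hab).trans (hf b))))
    _ = _ := Nat.card_congr (Subgroup.subgroupOfEquivOfLe X.torusT_le_grp).toEquiv

/-- An automorphism moving the rational subgroup into the fixed points of a squaring is inner
times a field automorphism. -/
theorem ratSub_aut (τ : K ≃+* K) (hτ : ∀ a, τ a = a ^ 2) {p : ℕ} [Fact p.Prime] [CharP K p]
    (θ : MulAut ↥X.grp) (hθ : ∀ g ∈ ratSub X, twAut hF 1 τ (θ g) = θ g) :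
    ∃ σ : K ≃+* K, QuotientGroup.mk' (Cfsg.Inn ↥X.grp) θ =
      QuotientGroup.mk' (Cfsg.Inn ↥X.grp) (twAut hF 1 σ) := by
  have : Fintype K := Fintype.ofFinite K
  have hA := X.axioms'
  have hS := X.sep'
  obtain ⟨x, hx1, hx2⟩ := exists_tfix X p θ
  set θ' : MulAut ↥X.grp := MulAut.conj x⁻¹ * θ with hθ'
  obtain ⟨c, σ, hp⟩ := tnormal_form hF θ' hx1 hx2
  set φ := twAut hF 1 τ with hφ
  set h := x⁻¹ * φ x with hh
  have key : ∀ g ∈ ratSub X, φ (θ' g) = h⁻¹ * θ' g * h := by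
    intro g hg
    have e : θ' g = x⁻¹ * θ g * x := by simp [hθ']
    rw [e, map_mul, map_mul, hθ g hg, map_inv, hh]
    group
  let u₀ : ↥X.grp := ((List.finRange D'.rank).map fun J => xg X J 1).prod
  have hu₀ : u₀ ∈ ratSub X := list_prod_mem fun g hg => by
    obtain ⟨J, -, rfl⟩ := List.mem_map.1 hg
    exact xg_one_mem X J
  have hu₀' : θ' u₀ = ((List.finRange D'.rank).map fun J => xg X J (c J).1).prod := by
    rw [map_list_prod, List.map_map]
    refine congrArg List.prod (List.map_congr_left fun J _ => ?_)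
    rw [Function.comp_apply, (hp J 1).1, domMap_one hF, mul_one]
  have hreg : ∀ i, θ' u₀ ∉ X.sys.Uhat i := by
    intro i hmem
    rw [hu₀'] at hmem
    have h1 := (sys_prod_not_mem_Uhat hA hS (x := fun J => xg X J (c J).1)
      (fun J => xg_mem X J _) i _ (List.nodup_finRange _)).2 (List.mem_finRange i) hmem
    exact (c i).ne_zero (xg_inj X (h1.trans (xg_zero X i).symm))
  have hU : θ' u₀ ∈ X.sys.Uplus := by
    rw [hu₀']
    refine list_prod_mem fun g hg => ?_
    obtain ⟨J, -, rfl⟩ := List.mem_map.1 hg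
    exact U_le_Uplus (hA.pos_a J) (xg_mem X J _)
  have hhU : X.sys.Uplus.map (MulAut.conj h).toMonoidHom = X.sys.Uplus := by
    refine sys_unique_conj hA hS hU hreg ⟨h⁻¹ * θ' u₀ * h, ?_, ?_⟩
    · rw [← key _ hu₀, ← (twAut_U hF 1 τ).1]
      exact ⟨_, hU, rfl⟩
    · simp only [MulEquiv.coe_toMonoidHom, MulAut.conj_apply]; group
  set w := nwT X (L0 (ctxSmall X))
  have hw : w ∈ ratSub X := list_prod_mem fun g hg => by
    obtain ⟨J, -, rfl⟩ := List.mem_map.1 hg
    exact n_mem_ratSub X J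
  have hV : X.sys.Uplus.map (MulAut.conj w).toMonoidHom = X.sys.Uminus := (tframe_hyp X).V_eq
  have hhV : X.sys.Uminus.map (MulAut.conj h).toMonoidHom = X.sys.Uminus := by
    have hUθ : X.sys.Uplus.map θ'.toMonoidHom = X.sys.Uplus := hx1
    have hUφ : X.sys.Uplus.map φ.toMonoidHom = X.sys.Uplus := (twAut_U hF 1 τ).1
    have hVθ : X.sys.Uminus =
        X.sys.Uplus.map (MulAut.conj (θ' w)).toMonoidHom := by
      conv_lhs => rw [← hx2, ← hV, Subgroup.map_map]
      conv_rhs => rw [← hUθ, Subgroup.map_map]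
      refine congrArg (fun f => Subgroup.map f X.sys.Uplus) (MonoidHom.ext fun g => ?_)
      show θ' (w * g * w⁻¹) = θ' w * θ' g * (θ' w)⁻¹
      rw [map_mul, map_mul, map_inv]
    have hVθ' : X.sys.Uminus =
        X.sys.Uplus.map (MulAut.conj (h⁻¹ * θ' w * h)).toMonoidHom := by
      rw [← key w hw]
      conv_lhs => rw [← (twAut_U hF 1 τ).2, hVθ, Subgroup.map_map]
      conv_rhs => rw [← hUφ, Subgroup.map_map]
      refine congrArg (fun f => Subgroup.map f X.sys.Uplus) (MonoidHom.ext fun g => ?_)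
      show φ (θ' w * g * (θ' w)⁻¹) = φ (θ' w) * φ g * (φ (θ' w))⁻¹
      rw [map_mul, map_mul, map_inv]
    calc X.sys.Uminus.map (MulAut.conj h).toMonoidHom
        = X.sys.Uplus.map (MulAut.conj (θ' w * h)).toMonoidHom := by
          rw [hVθ', Frame.map_conj_conj]; congr 3; group
      _ = (X.sys.Uplus.map (MulAut.conj h).toMonoidHom).map (MulAut.conj (θ' w)).toMonoidHom :=
          (Frame.map_conj_conj _ _ _).symm
      _ = _ := by rw [hhU, ← hVθ]
  obtain ⟨e, he⟩ := conj_H_eq hF (inv_mem ((conj_mem_tA0_iff h).1 ⟨hhU, hhV⟩))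
  obtain rfl : c = e := funext fun J => by
    have h1 := key _ (xg_one_mem X J)
    have h2 : h⁻¹ * θ' (xg X J 1) * h = twAut hF e 1 (θ' (xg X J 1)) := by
      rw [← he, MulAut.conj_apply, inv_inv]
    rw [h2, (hp J 1).1, domMap_one hF, mul_one, (twAut_param hF 1 τ J _).1,
      (twAut_param hF e 1 J _).1] at h1
    have h3 : ((1 : (dom X J)ˣ) : dom X J).1 * τ (c J).1.1 = (e J).1.1 * (c J).1.1 :=
      congrArg Subtype.val (xg_inj X h1)
    rw [hτ, Units.val_one, Subfield.coe_one, one_mul, pow_two] at h3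
    exact Units.ext (Subtype.ext (mul_right_cancel₀
      (fun he => (c J).ne_zero (Subtype.ext he)) h3))
  refine ⟨σ, ?_⟩
  have hθeq : θ = MulAut.conj (x * h⁻¹) * twAut hF 1 σ := by
    rw [map_mul, he, mul_assoc, twAut_mul, mul_one, ← tparam_unique hF hp, hθ', map_inv,
      mul_inv_cancel_left]
  rw [hθeq, map_mul (QuotientGroup.mk' _), show QuotientGroup.mk' (Cfsg.Inn ↥X.grp)
      (MulAut.conj (x * h⁻¹)) = 1 from (QuotientGroup.eq_one_iff _).2 ⟨_, rfl⟩, one_mul]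

omit hF in
theorem map_mul_aut {G : Type*} [Group G] (H : Subgroup G) (a b : MulAut G) :
    (H.map b.toMonoidHom).map a.toMonoidHom = H.map (a * b).toMonoidHom := by
  rw [Subgroup.map_map]; rfl

/-- Rational subgroups moved by diagonal automorphisms in distinct outer classes are not
conjugate. -/
theorem ratSub_not_conj (τ : K ≃+* K) (hτ : ∀ a, τ a = a ^ 2) {p : ℕ} [Fact p.Prime] [CharP K p]
    {c d : ∀ J, (dom X J)ˣ} (hne : diagOut hF c ≠ diagOut hF d) (g : ↥X.grp) :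
    ((ratSub X).map (twAut hF c 1).toMonoidHom).map (MulAut.conj g).toMonoidHom ≠
      (ratSub X).map (twAut hF d 1).toMonoidHom := by
  intro he
  set θ := (twAut hF d 1)⁻¹ * MulAut.conj g * twAut hF c 1 with hθ
  have hfix : ∀ x ∈ ratSub X, twAut hF 1 τ x = x := by
    intro x hx
    refine Subgroup.closure_induction (p := fun x _ => twAut hF 1 τ x = x) ?_ (map_one _) ?_ ?_ hx
    · rintro _ ⟨J, rfl | rfl⟩
      · rw [(twAut_param hF 1 τ J 1).1, domMap_one hF, Pi.one_apply, Units.val_one, mul_one]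
      · rw [(twAut_param hF 1 τ J 1).2, domMap_one hF, Pi.one_apply, inv_one, Units.val_one,
          mul_one]
    · intro a b _ _ ha hb; rw [map_mul, ha, hb]
    · intro a _ ha; rw [map_inv, ha]
  have hmap : (ratSub X).map θ.toMonoidHom = ratSub X := by
    rw [hθ, ← map_mul_aut, ← map_mul_aut, he, map_mul_aut, inv_mul_cancel]
    ext x; simp
  obtain ⟨σ, hσ⟩ := ratSub_aut hF τ hτ (p := p) θ fun x hx =>
    hfix _ (hmap ▸ ⟨x, hx, rfl⟩)
  have h1 : (diagOut hF d)⁻¹ * diagOut hF c =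
      QuotientGroup.mk' (Cfsg.Inn ↥X.grp) (twAut hF 1 σ) := by
    rw [← hσ, hθ, map_mul, map_mul, map_inv,
      show QuotientGroup.mk' (Cfsg.Inn ↥X.grp) (MulAut.conj g) = 1 from
        (QuotientGroup.eq_one_iff _).2 ⟨g, rfl⟩, mul_one]
    rfl
  rw [← map_inv, ← map_mul] at h1
  have h2 := diagOut_eq_field hF h1
  rw [map_mul, map_inv, inv_mul_eq_one] at h2
  exact hne h2.symm

end EA
end H13
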