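import Cfsg.Agent.H13.EA.TwInst
import Cfsg.Agent.H13.EA.TwFixed
import Cfsg.Agent.H55.E6FixIso
import Cfsg.Agent.H54.ChevBaseChange

/-!
The rational subgroup of `²E₆(2)` is isomorphic to `F₄(2)`.
-/

set_option autoImplicit false
set_option linter.unusedSectionVars false

open Cfsg.Lie
open H52

namespace H13
namespace EA

variable {K : Type*} [Field K] [Fintype K] [CharP K 2] {T : Tables}

theorem glF_xp (X : Twist e6Fold T K) (f : ZMod 2 →+* K) (a : Fin chevE6.rank → Fin chevE6.nroots)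
    (J : Fin chevF4.rank) (t : ZMod 2) :
    H54.glF chevE6 f (Twist.xp e6Fold a J fun _ => t) = Twist.xp e6Fold a J fun _ => f t := by
  rw [Twist.xp, Twist.xp, map_list_prod, List.map_map]
  exact congrArg List.prod (List.map_congr_left fun j _ => (ctxBig X).glF_rt f _ _)

theorem ratSub_iso (X : Twist e6Fold T K) :
    Nonempty (↥(ratSub X) ≃* ↥(chevF4.group (ZMod 2))) := by
  let f : ZMod 2 →+* K := ZMod.castHom (dvd_refl 2) K
  let F := H55.E6Fold.fixTwist (ZMod 2)
  have hone : ∀ (a : Fin chevE6.rank → Fin chevE6.nroots) J,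
      Twist.xp e6Fold a J (vec X J (1 : K)) = Twist.xp e6Fold a J fun _ => f 1 := fun a J =>
    X.xp_congr fun j _ => by simp [vec]
  have heq : (H55.E6Fold.grp6 (ZMod 2)).map (H54.glF chevE6 f) =
      (ratSub X).map X.grp.subtype := by
    refine le_antisymm ?_ ?_
    · rw [H55.E6Fold.grp6, Twist.grp, MonoidHom.map_closure, Subgroup.closure_le]
      rintro _ ⟨g, ⟨J, hg | hg⟩, rfl⟩
      · obtain ⟨t, ht, rfl⟩ := F.mem_E_ap.1 hg
        obtain ⟨a, ha⟩ := H55.E6Fold.equi_const ht
        rw [F.xp_congr (u := fun _ => a) ha, glF_xp X]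
        rcases (show ∀ b : ZMod 2, b = 0 ∨ b = 1 by decide) a with rfl | rfl
        · rw [map_zero, show (fun _ => (0 : K)) = (0 : Fin chevE6.rank → K) from rfl, X.xp_zero]
          exact one_mem _
        · refine ⟨xg X J 1, xg_one_mem X J, ?_⟩
          exact hone _ J
      · obtain ⟨t, ht, rfl⟩ := H55.E6Fold.mem_E_an hg
        obtain ⟨a, ha⟩ := H55.E6Fold.equi_const ht
        rw [F.xp_congr (u := fun _ => a) ha, glF_xp X]
        rcases (show ∀ b : ZMod 2, b = 0 ∨ b = 1 by decide) a with rfl | rfl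
        · rw [map_zero, show (fun _ => (0 : K)) = (0 : Fin chevE6.rank → K) from rfl, X.xp_zero]
          exact one_mem _
        · refine ⟨yg X J 1, Subgroup.subset_closure ⟨J, Or.inr rfl⟩, ?_⟩
          exact hone _ J
    · rw [ratSub, MonoidHom.map_closure, Subgroup.closure_le]
      rintro _ ⟨g, ⟨J, rfl | rfl⟩, rfl⟩
      · exact ⟨_, F.E_le_grp _ (F.xp_p_mem (H55.E6Fold.equi_of_const J 1)),
          (glF_xp X f _ J 1).trans (hone _ J).symm⟩
      · exact ⟨_, F.E_le_grp _ (F.xp_n_mem (H55.E6Fold.equi_of_const J 1)),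
          (glF_xp X f _ J 1).trans (hone _ J).symm⟩
  obtain ⟨e⟩ := H55.E6Fold.nonempty_equiv (F := ZMod 2)
  exact ⟨((ratSub X).equivMapOfInjective _ X.grp.subtype_injective).trans
    ((MulEquiv.subgroupCongr heq.symm).trans
      (((H55.E6Fold.grp6 (ZMod 2)).equivMapOfInjective _ (H54.glF_injective f)).symm.trans e))⟩

theorem exists_three (hK : Fintype.card K = 4) :
    ∃ H : Fin 3 → Subgroup (twistedE6 K 2),
      (∀ i, Nonempty ((H i) ≃* chevF4.group (ZMod 2))) ∧
      (∀ i j, i ≠ j → ∀ g : (twistedE6 K 2),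
        (H i).map (MulAut.conj g).toMonoidHom ≠ H j) := by
  have hK2 : Fintype.card K = 2 ^ 2 := by rw [hK]; rfl
  have hq : IsPrimePow 2 := Nat.prime_two.isPrimePow
  obtain ⟨T, X, hf⟩ := exists_twistE6 hq hK2
  have hF := e6_twFacts X hf hK2
  rw [← twistE6_grp X hf hK2]
  have hcard := e6_card_torus X hf hK2
  have hle := card_diagOut hF
  have hprod : ∏ J : Fin chevF4.rank, (2 ^ (e6Fold.orb J).length - 1) = 9 := by decide +kernel
  rw [hprod] at hle
  have hH : Nat.card ↥X.torusT = 3 := by norm_num at hcard; omega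
  rw [hH] at hle
  have : Fintype ↥(diagOut hF).range := Fintype.ofFinite _
  rw [Nat.card_eq_fintype_card] at hle
  obtain ⟨ι⟩ : Nonempty (Fin 3 ↪ ↥(diagOut hF).range) :=
    Function.Embedding.nonempty_of_card_le (by rw [Fintype.card_fin]; omega)
  choose c hc using fun i => (ι i).2
  have : Fact (Nat.Prime 2) := ⟨Nat.prime_two⟩
  refine ⟨fun i => (ratSub X).map (twAut hF (c i) 1).toMonoidHom, fun i => ?_, fun i j hij g =>
    ratSub_not_conj hF X.f hf (p := 2) (fun he => hij ?_) g⟩
  · obtain ⟨e⟩ := ratSub_iso X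
    exact ⟨(((ratSub X).equivMapOfInjective _ (twAut hF (c i) 1).injective)).symm.trans e⟩
  · exact ι.injective (Subtype.ext (by rw [← hc i, ← hc j, he]))

end EA
end H13
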