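import Cfsg.Agent.H13.EA.TwAuts
import Cfsg.Agent.H52.TwistD4
import Cfsg.Agent.H52.TwistE6

/-!
The foldings of `D₄` and `E₆`.
-/

set_option autoImplicit false
set_option linter.unusedSectionVars false
set_option maxRecDepth 4000

open Cfsg.Lie
open H52

namespace H13
namespace EA

set_option backward.isDefEq.respectTransparency false in
theorem d4_rigid : Rigid d4Fold := by
  unfold Rigid Cm
  decide +kernel

set_option backward.isDefEq.respectTransparency false in
theorem e6_rigid : Rigid e6Fold := by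
  unfold Rigid Cm
  decide +kernel

theorem d4_orth : ∀ J, ∀ i ∈ d4Fold.orb J, ∀ j ∈ d4Fold.orb J, i ≠ j →
    chevD4.cartan i.val (chevD4.simple j.val) = 0 := by decide +kernel

theorem e6_orth : ∀ J, ∀ i ∈ e6Fold.orb J, ∀ j ∈ e6Fold.orb J, i ≠ j →
    chevE6.cartan i.val (chevE6.simple j.val) = 0 := by decide +kernel

theorem d4_edge : ∀ i ∈ d4Fold.orb g2J1,
    chevD4.cartan i.val (chevD4.simple d4I0.val) = if i = d4I1 then -1 else 0 := by decide +kernel

theorem e6_edge0 : ∀ i ∈ e6Fold.orb f4J0,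
    chevE6.cartan i.val (chevE6.simple e6I2.val) = if i = e6I0 then -1 else 0 := by decide +kernel

theorem e6_edge2 : ∀ i ∈ e6Fold.orb f4J2,
    chevE6.cartan i.val (chevE6.simple e6I2.val) = if i = e6I3 then -1 else 0 := by decide +kernel

theorem e6_edge3 : ∀ i ∈ e6Fold.orb f4J3,
    chevE6.cartan i.val (chevE6.simple e6I3.val) = if i = e6I1 then -1 else 0 := by decide +kernel

variable {K : Type*} [Field K] [Fintype K] {q : ℕ} {T : Tables}

theorem d4_twFacts (X : Twist d4Fold T K) (hf : ∀ x, X.f x = x ^ q)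
    (hK : Fintype.card K = q ^ 3) : TwFacts X q g2J0 where
  one_lt := one_le_pow_card (K := K) (by norm_num) hK
  card_E := d4_card_E X hf hK
  orth J i hi hne := d4_orth J i hi _ (base_mem X J) hne
  rigid := d4_rigid
  full a := base_mem_dom X (d4_equi_short_fun X hf hK a)
  linked J := by
    rcases g2_cases J with rfl | rfl
    · exact Linked.refl
    · exact Linked.down (J' := g2J0) d4_edge Linked.refl
  f_comm σ a := by rw [hf, hf, map_pow]

theorem e6_full (X : Twist e6Fold T K) (hf : ∀ x, X.f x = x ^ q)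
    (hK : Fintype.card K = q ^ 2) (a : K) : a ∈ dom X f4J0 := by
  have h := base_mem_dom X
    (e6_equi_pair_fun X hf hK (J := f4J0) rfl e6Fold_τi.1 e6Fold_τi.2.2.2.2.2 (by decide) a)
  rwa [show base X f4J0 = e6I0 from rfl, if_pos rfl] at h

theorem e6_twFacts (X : Twist e6Fold T K) (hf : ∀ x, X.f x = x ^ q)
    (hK : Fintype.card K = q ^ 2) : TwFacts X q f4J0 where
  one_lt := one_le_pow_card (K := K) (by norm_num) hK
  card_E := e6_card_E X hf hK
  orth J i hi hne := e6_orth J i hi _ (base_mem X J) hne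
  rigid := e6_rigid
  full := e6_full X hf hK
  linked J := by
    have h1 : Linked X f4J0 f4J1 := Linked.up e6_edge0 (e6_full X hf hK) Linked.refl
    rcases f4_cases J with rfl | rfl | rfl | rfl
    · exact Linked.refl
    · exact h1
    · exact Linked.down (J' := f4J1) e6_edge2 h1
    · exact Linked.down (J' := f4J2) e6_edge3 (Linked.down (J' := f4J1) e6_edge2 h1)
  f_comm σ a := by rw [hf, hf, map_pow]

/-- `|Out ³D₄(q)| = n`, `q³ = p^n`. -/
theorem d4_card_out (hq : IsPrimePow q) (hK : Fintype.card K = q ^ 3) {p n : ℕ} [Fact p.Prime]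
    (hp : Fintype.card K = p ^ n) : Nat.card (Cfsg.Out ↥(twistedD4 K q)) = n := by
  obtain ⟨T, X, hf⟩ := exists_twistD4 hq hK
  rw [← twistD4_grp X hf hK]
  have h := card_tout_mul (d4_twFacts X hf hK) (p := p) (n := n)
    (by rw [Nat.card_eq_fintype_card, hp])
  rw [d4_card_torus X hf hK] at h
  have hprod : ∏ J : Fin chevG2.rank, (q ^ (d4Fold.orb J).length - 1) = (q ^ 3 - 1) * (q - 1) := by
    show ∏ J : Fin 2, _ = _
    rw [Fin.prod_univ_two]
    show (q ^ 3 - 1) * (q ^ 1 - 1) = _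
    rw [pow_one]
  rw [hprod] at h
  have hq2 := one_le_pow_card (K := K) (by norm_num) hK
  obtain ⟨r, rfl⟩ : ∃ r, q = r + 1 := ⟨q - 1, by omega⟩
  rw [Nat.add_sub_cancel, show (r + 1) ^ 3 - 1 = r * ((r + 1) ^ 2 + (r + 1) + 1) by
    apply Nat.sub_eq_of_eq_add; ring] at h
  refine Nat.eq_of_mul_eq_mul_right (m := r ^ 2 * ((r + 1) ^ 2 + (r + 1) + 1)) ?_ ?_
  · have : 0 < r := by omega
    positivity
  · rw [h]; ring

/-- `|Out ²E₆(q)| = gcd(3, q + 1) n`, `q² = p^n`. -/
theorem e6_card_out (hq : IsPrimePow q) (hK : Fintype.card K = q ^ 2) {p n : ℕ} [Fact p.Prime]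
    (hp : Fintype.card K = p ^ n) :
    Nat.card (Cfsg.Out ↥(twistedE6 K q)) = Nat.gcd 3 (q + 1) * n := by
  obtain ⟨T, X, hf⟩ := exists_twistE6 hq hK
  rw [← twistE6_grp X hf hK]
  have h := card_tout_mul (e6_twFacts X hf hK) (p := p) (n := n)
    (by rw [Nat.card_eq_fintype_card, hp])
  have hH := e6_card_torus X hf hK
  have hprod : ∏ J : Fin chevF4.rank, (q ^ (e6Fold.orb J).length - 1) =
      (q ^ 2 - 1) * (q ^ 2 - 1) * (q - 1) * (q - 1) := by
    show ∏ J : Fin 4, _ = _
    rw [Fin.prod_univ_four]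
    show (q ^ 2 - 1) * (q ^ 2 - 1) * (q ^ 1 - 1) * (q ^ 1 - 1) = _
    rw [pow_one]
  rw [hprod] at h
  have hq2 := one_le_pow_card (K := K) (by norm_num) hK
  have hpos : 0 < Nat.card ↥X.torusT := Nat.card_pos
  obtain ⟨r, rfl⟩ : ∃ r, q = r + 1 := ⟨q - 1, by omega⟩
  rw [Nat.add_sub_cancel, show (r + 1) ^ 2 - 1 = r * (r + 2) by
    apply Nat.sub_eq_of_eq_add; ring] at h
  rw [Nat.add_sub_cancel] at hH
  refine Nat.eq_of_mul_eq_mul_right hpos ?_
  rw [h]
  calc r * (r + 2) * (r * (r + 2)) * r * r * n = r ^ 4 * (r + 1 + 1) ^ 2 * n := by ring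
    _ = _ := by rw [← hH]; ring

end EA
end H13
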