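import Cfsg.Agent.H13.EA.TwParam

/-!
An automorphism of a twisted group fixing `U¹` and `V¹` acts on the fundamental root elements
through constants and one field automorphism.
-/

set_option autoImplicit false
set_option linter.unusedSectionVars false

open Cfsg.Lie
open H53.RootGroupSys

namespace H13
namespace EA

variable {D D' : ChevalleyDatum} {Fl : H52.Fold D D'} {T : H52.Tables} {K : Type*} [Field K]
  (X : H52.Twist Fl T K)

/-- Two classes whose roots commute. -/
def Cm (Fl : H52.Fold D D') (J J' : Fin D'.rank) : Prop :=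
  ∀ i ∈ Fl.orb J, ∀ j ∈ Fl.orb J', H52.RootsCommute D (Fl.sp i).val (Fl.sp j).val

/-- Only the identity preserves the sizes and the adjacency of the classes. -/
def Rigid (Fl : H52.Fold D D') : Prop :=
  ∀ π : Equiv.Perm (Fin D'.rank), (∀ J, (Fl.orb (π J)).length = (Fl.orb J).length) →
    (∀ J J', J ≠ J' → Cm Fl J J' →
      Fl.W'.data.act (π J) (Fl.W'.data.simple (π J')) = Fl.W'.data.simple (π J')) → π = 1

/-- Classes linked to `J₀`. -/
inductive Linked (J₀ : Fin D'.rank) : Fin D'.rank → Prop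
  | refl : Linked J₀ J₀
  | down {J J' : Fin D'.rank} : Edge X J J' → Linked J₀ J' → Linked J₀ J
  | up {J J' : Fin D'.rank} : Edge X J J' → (∀ a : K, a ∈ dom X J) → Linked J₀ J → Linked J₀ J'

/-- What is needed of a folding and its field automorphism. -/
structure TwFacts (q : ℕ) (J₀ : Fin D'.rank) : Prop where
  one_lt : 1 < q
  card_E : ∀ J, Nat.card ↥(X.E (Fl.ap J)) = q ^ (Fl.orb J).length
  orth : ∀ J, ∀ i ∈ Fl.orb J, i ≠ base X J → D.cartan i.val (D.simple (base X J).val) = 0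
  rigid : Rigid Fl
  full : ∀ a : K, a ∈ dom X J₀
  linked : ∀ J, Linked X J₀ J
  f_comm : ∀ (σ : K ≃+* K) (a : K), σ (X.f a) = X.f (σ a)

variable {X}

theorem card_dom {q : ℕ} {J₀ : Fin D'.rank} (h : TwFacts X q J₀) (J : Fin D'.rank) :
    Nat.card (dom X J) = q ^ (Fl.orb J).length := by
  rw [← h.card_E J]
  refine Nat.card_eq_of_bijective
    (fun a => (⟨H52.Twist.xp Fl Fl.sp J (vec X J a.1), X.xp_p_mem a.2⟩ : ↥(X.E (Fl.ap J)))) ⟨?_, ?_⟩
  · intro a b e
    exact xg_inj X (Subtype.ext (congrArg Subtype.val e :))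
  · rintro ⟨g, hg⟩
    obtain ⟨a, ha⟩ := exists_xg X (J := J) (g := ⟨g, X.E_le_grp _ hg⟩) hg
    exact ⟨a, Subtype.ext (congrArg Subtype.val ha).symm⟩

theorem fk_comm {q : ℕ} {J₀ : Fin D'.rank} (h : TwFacts X q J₀) (σ : K ≃+* K) (k : ℕ) (a : K) :
    σ (fk X k a) = fk X k (σ a) := by
  rw [fk_apply, fk_apply]
  induction k generalizing a with
  | zero => rfl
  | succ k ih => rw [Function.iterate_succ_apply, Function.iterate_succ_apply, ih, h.f_comm]

theorem map_dom {q : ℕ} {J₀ : Fin D'.rank} (h : TwFacts X q J₀) (σ : K ≃+* K) {J : Fin D'.rank}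
    {a : K} (ha : a ∈ dom X J) : σ a ∈ dom X J := fun j hj => by
  have h1 := congrArg σ (ha j hj)
  simp only [vec] at h1 ⊢
  rw [fk_comm h, h.f_comm, fk_comm h] at h1
  exact h1

/-- A field automorphism on the parameters of a class. -/
noncomputable def domMap {q : ℕ} {J₀ : Fin D'.rank} (h : TwFacts X q J₀) (σ : K ≃+* K)
    (J : Fin D'.rank) (a : dom X J) : dom X J := ⟨σ a.1, map_dom h σ a.2⟩

/-- `θ` has the parameters `c`, `σ`. -/
def TParam {q : ℕ} {J₀ : Fin D'.rank} (h : TwFacts X q J₀) (θ : ↥X.grp ≃* ↥X.grp)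
    (c : ∀ J, (dom X J)ˣ) (σ : K ≃+* K) : Prop :=
  ∀ (J : Fin D'.rank) (a : dom X J),
    θ (xg X J a) = xg X J ((c J).1 * domMap h σ J a) ∧
      θ (yg X J a) = yg X J (((c J)⁻¹).1 * domMap h σ J a)

theorem commute_of_cm {J J' : Fin D'.rank} (hcm : Cm Fl J J') :
    ∀ x ∈ (tframe X).X J, ∀ y ∈ (tframe X).X J', Commute x y := by
  intro x hx y hy
  obtain ⟨a, rfl⟩ := exists_xg X hx
  obtain ⟨b, rfl⟩ := exists_xg X hy
  apply Subtype.ext
  rw [Subgroup.coe_mul, Subgroup.coe_mul, coe_xg, coe_xg]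
  refine Commute.list_prod_left _ _ fun g hg => Commute.list_prod_right _ _ fun g' hg' => ?_
  obtain ⟨i, hi, rfl⟩ := List.mem_map.1 hg
  obtain ⟨j, hj, rfl⟩ := List.mem_map.1 hg'
  exact X.rt_commute (Fl.sp i).isLt (Fl.sp j).isLt (hcm i hi j hj) _ _

theorem act_of_commute {J J' : Fin D'.rank} (hne : J ≠ J')
    (h : ∀ x ∈ (tframe X).X J, ∀ y ∈ (tframe X).X J', Commute x y) :
    Fl.W'.data.act J (Fl.W'.data.simple J') = Fl.W'.data.simple J' := by
  by_contra hact
  have hA := X.axioms'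
  have hS := X.sep'
  have hne' : X.sys.a J' ≠ X.sys.a J := fun e => hne (hS.a_inj e).symm
  have hb : ∀ b : dom X J', Commute (X.sys.n J) (xg X J' b) := by
    intro b
    have h1 : ∀ y ∈ (tframe X).Xn J, Commute y (xg X J' b) := fun y hy =>
      ((tframe_hyp X).commute J' J (Ne.symm hne) _ (xg_mem X J' b) y hy).symm
    have h2 : X.sys.n J = ng X J 1 := Subtype.ext (by
      rw [coe_ng]
      show H52.Twist.nOne Fl K J = H52.Twist.nJ Fl J _
      rw [H52.Twist.nOne]
      congr 1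
      funext j
      simp [vec])
    rw [h2, ng]
    exact ((h _ (xg_mem X J 1) _ (xg_mem X J' b)).mul_left (h1 _ (yg_mem X J _))).mul_left
      (h _ (xg_mem X J 1) _ (xg_mem X J' b))
  have hx : xg X J' 1 ∈ X.sys.U (X.sys.σ J (X.sys.a J')) := by
    have h3 := acts_conj_mem (acts_n hA J) (xg_mem X J' 1)
    rwa [(hb 1).eq, mul_inv_cancel_right] at h3
  have hhat : xg X J' 1 ∈ X.sys.Uhat J' :=
    U_le_Uhat (hA.sigma_pos J _ (hA.pos_a J') hne') hact hx
  exact one_ne_zero (xg_inj X ((H52.Ua_inf_Uhat hA hS J' (xg_mem X J' 1) hhat).trans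
    (xg_zero X J').symm))

/-- An automorphism fixing `U¹` and `V¹` stabilises every fundamental root subgroup. -/
theorem fix_classes [Finite K] {q : ℕ} {J₀ : Fin D'.rank} (h : TwFacts X q J₀)
    (θ : ↥X.grp ≃* ↥X.grp) (hU : X.sys.Uplus.map θ.toMonoidHom = X.sys.Uplus)
    (hV : X.sys.Uminus.map θ.toMonoidHom = X.sys.Uminus) (J : Fin D'.rank) :
    ((tframe X).X J).map θ.toMonoidHom = (tframe X).X J ∧
      ((tframe X).Xn J).map θ.toMonoidHom = (tframe X).Xn J := by
  obtain ⟨π, hπ⟩ := Frame.exists_perm (tframe_hyp X) hU hV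
  suffices hid : π = 1 by have := hπ J; rwa [hid] at this
  refine h.rigid π (fun J => Nat.pow_right_injective h.one_lt ?_) fun J J' hne hcm => ?_
  · show q ^ _ = q ^ _
    rw [← h.card_E, ← h.card_E]
    have e1 : ∀ J, Nat.card ↥((tframe X).X J) = Nat.card ↥(X.E (Fl.ap J)) := fun J =>
      Nat.card_congr (Subgroup.subgroupOfEquivOfLe (X.E_le_grp (Fl.ap J))).toEquiv
    rw [← e1, ← e1, ← (hπ J).1]
    exact Subgroup.card_map_of_injective θ.injective
  · refine act_of_commute (X := X) (π.injective.ne hne) fun x hx y hy => ?_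
    rw [← (hπ J).1] at hx
    rw [← (hπ J').1] at hy
    obtain ⟨x, hx, rfl⟩ := hx
    obtain ⟨y, hy, rfl⟩ := hy
    exact (commute_of_cm hcm x hx y hy).map θ

/-- The normal form. -/
theorem tnormal_form [Finite K] {q : ℕ} {J₀ : Fin D'.rank} (h : TwFacts X q J₀)
    (θ : ↥X.grp ≃* ↥X.grp) (hU : X.sys.Uplus.map θ.toMonoidHom = X.sys.Uplus)
    (hV : X.sys.Uminus.map θ.toMonoidHom = X.sys.Uminus) :
    ∃ (c : ∀ J, (dom X J)ˣ) (σ : K ≃+* K), TParam h θ c σ := by
  classical
  have hfix := fix_classes h θ hU hV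
  have hX : ∀ J (a : dom X J), ∃ b, θ (xg X J a) = xg X J b := fun J a =>
    exists_xg X ((hfix J).1.le ⟨_, xg_mem X J a, rfl⟩)
  have hXn : ∀ J (a : dom X J), ∃ b, θ (yg X J a) = yg X J b := fun J a =>
    exists_yg X ((hfix J).2.le ⟨_, yg_mem X J a, rfl⟩)
  choose f hf using hX
  choose g hg using hXn
  have hadd : ∀ J a b, f J (a + b) = f J a + f J b := fun J a b =>
    xg_inj X (by rw [← hf, ← xg_add, map_mul, hf, hf, xg_add])
  have hinj : ∀ J, Function.Injective (f J) := fun J a b e =>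
    xg_inj X (θ.injective (by rw [hf, hf, e]))
  have h0 : ∀ J, f J 0 = 0 := fun J => by
    have := hadd J 0 0
    rw [add_zero] at this
    exact left_eq_add.1 this
  have hneg : ∀ J a, f J (-a) = -f J a := fun J a => by
    have := hadd J a (-a)
    rw [add_neg_cancel, h0] at this
    exact eq_neg_of_add_eq_zero_right this.symm
  have hne : ∀ J a, a ≠ 0 → f J a ≠ 0 := fun J a ha e => ha (hinj J (e.trans (h0 J).symm))
  have hgf : ∀ J a, a ≠ 0 → g J (-a⁻¹) = -(f J a)⁻¹ := by
    intro J a ha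
    have hw := tweyl_unique X J (d := f J a) (A := g J (-a⁻¹)) fun u => by
      obtain ⟨v, hv⟩ := Finite.injective_iff_surjective.1 (hinj J) u
      rw [← hv, ← hf, ← hf, ← hg, ← map_mul, ← map_mul, ← map_inv, ← map_mul, ← map_mul]
      refine (hfix J).2.le ⟨_, ?_, rfl⟩
      rw [← ng_conj_X X J ha]
      exact ⟨_, xg_mem X J v, rfl⟩
    rw [hw.2, inv_neg, inv_inv, neg_neg]
  have hng : ∀ J a, a ≠ 0 → θ (ng X J a) = ng X J (f J a) := fun J a ha => by
    rw [ng, map_mul, map_mul, hf, hg, hgf J a ha, ng]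
  have hc0 : ∀ J, f J 1 ≠ 0 := fun J => hne J 1 one_ne_zero
  set c : ∀ J, (dom X J)ˣ := fun J => Units.mk0 (f J 1) (hc0 J) with hc
  -- the action of the torus
  have hact : ∀ J J' (a : (dom X J)ˣ) (u w : dom X J'), w.1 = chi X J J' a * u.1 →
      (f J' w).1 = chi X J J' (Units.mk0 (f J a.1) (hne J _ a.ne_zero) * (c J)⁻¹) * (f J' u).1 := by
    intro J J' a u w hw
    obtain ⟨w', hw', e⟩ := chi_conj X J J' a u
    obtain rfl : w = w' := Subtype.ext (hw.trans hw'.symm)
    set b : (dom X J)ˣ := Units.mk0 (f J a.1) (hne J _ a.ne_zero) * (c J)⁻¹ with hb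
    obtain ⟨w₂, hw₂, e₂⟩ := chi_conj X J J' b (f J' u)
    have hng' : θ (ng X J a.1 * ng X J (-1)) = ng X J b.1 * ng X J (-1) := by
      rw [map_mul, hng J _ a.ne_zero, hng J _ (neg_ne_zero.2 one_ne_zero), hneg]
      apply Subtype.ext
      have k1 := coe_ng_mul X J (Units.mk0 (f J a.1) (hne J _ a.ne_zero))
      have k2 := coe_ng_mul X J (c J)
      have k3 := coe_ng_mul X J b
      rw [hb] at k3
      rw [k3, show rvec X J (Units.mk0 (f J a.1) (hne J _ a.ne_zero) * (c J)⁻¹) =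
        rvec X J (Units.mk0 (f J a.1) (hne J _ a.ne_zero)) * (rvec X J (c J))⁻¹ by
          funext i
          simp only [rvec, H52.Twist.restr, Pi.mul_apply, Pi.inv_apply]
          split_ifs
          · apply Units.ext
            simp [vec]
          · simp, map_mul, map_inv, ← k1, ← k2, ← Subgroup.coe_inv, ← Subgroup.coe_mul]
      simp only [Units.val_mk0, hc, ng_neg]
      congr 1
      group
    have := congrArg θ e
    rw [map_mul, map_mul, map_inv, hng', hf, hf, e₂] at this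
    rw [← xg_inj X this, hw₂]
  set s : Fin D'.rank → K → K := fun J a =>
    if ha : a ∈ dom X J then (f J ⟨a, ha⟩).1 / (f J 1).1 else 0 with hs
  have hs_eq : ∀ J (a : dom X J), (f J a).1 = (f J 1).1 * s J a.1 := fun J a => by
    have : (f J 1).1 ≠ 0 := fun e => hc0 J (Subtype.ext e)
    simp only [hs, dif_pos a.2]
    rw [mul_div_cancel₀ _ this]
  have hcne : ∀ J, (f J 1).1 ≠ 0 := fun J e => hc0 J (Subtype.ext e)
  have hs1 : ∀ J, s J 1 = 1 := fun J => by
    simp only [hs, dif_pos (one_mem (dom X J))]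
    exact div_self (hcne J)
  have hsadd : ∀ J, ∀ a ∈ dom X J, ∀ b ∈ dom X J, s J (a + b) = s J a + s J b := by
    intro J a ha b hb
    simp only [hs, dif_pos ha, dif_pos hb, dif_pos (add_mem ha hb)]
    rw [← add_div, ← Subfield.coe_add, ← hadd]
    rfl
  have hsunit : ∀ J (a : (dom X J)ˣ),
      ((Units.mk0 (f J a.1) (hne J _ a.ne_zero) * (c J)⁻¹ : (dom X J)ˣ).1 : dom X J).1 = s J a.1.1 := by
    intro J a
    simp only [hs, dif_pos a.1.2, hc, Units.val_mul, Units.val_mk0, Units.val_inv_eq_inv_val,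
      Subfield.coe_mul, Subfield.coe_inv, div_eq_mul_inv, Subtype.coe_eta]
  have hsmul : ∀ J, ∀ a ∈ dom X J, ∀ b ∈ dom X J, s J (a * b) = s J a * s J b := by
    intro J a ha b hb
    refine subfield_map_mul_of_sq (dom X J) (s J) (hsadd J) (hs1 J) (fun t ht u hu ht0 => ?_) ha hb
    have htne : (⟨t, ht⟩ : dom X J) ≠ 0 := fun e => ht0 (congrArg Subtype.val e)
    set au : (dom X J)ˣ := Units.mk0 ⟨t, ht⟩ htne with hau
    have hw : (⟨t ^ 2 * u, mul_mem (pow_mem ht 2) hu⟩ : dom X J).1 = chi X J J au * u := by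
      rw [chi_self X J au (h.orth J)]; rfl
    have h1 := hact J J au ⟨u, hu⟩ _ hw
    rw [chi_self X J _ (h.orth J), hsunit, hs_eq J ⟨t ^ 2 * u, _⟩, hs_eq J ⟨u, hu⟩] at h1
    dsimp only at h1
    apply mul_left_cancel₀ (hcne J)
    rw [h1]
    show s J t ^ 2 * ((f J 1).1 * s J u) = _
    ring
  have hlink : ∀ J J', Edge X J J' → ∀ a ∈ dom X J, a ∈ dom X J' ∧ s J' a = s J a := by
    intro J J' he a ha
    by_cases ha0 : a = 0
    · subst ha0
      refine ⟨zero_mem _, ?_⟩
      simp only [hs, dif_pos (zero_mem (dom X J)), dif_pos (zero_mem (dom X J'))]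
      rw [show (⟨0, _⟩ : dom X J) = 0 from rfl, show (⟨0, _⟩ : dom X J') = 0 from rfl, h0, h0]
      simp
    have hane : (⟨a, ha⟩ : dom X J)⁻¹ ≠ 0 := inv_ne_zero fun e => ha0 (congrArg Subtype.val e)
    set au : (dom X J)ˣ := Units.mk0 (⟨a, ha⟩⁻¹) hane with hau
    obtain ⟨w, hw, -⟩ := chi_conj X J J' au 1
    have hwa : w.1 = a := by
      rw [hw, chi_edge X he au]
      show ((a⁻¹ : K))⁻¹ * 1 = a
      rw [inv_inv, mul_one]
    refine ⟨hwa ▸ w.2, ?_⟩
    have h1 := hact J J' au 1 w hw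
    rw [chi_edge X he, hsunit, hs_eq J' w, hwa] at h1
    have h2 : s J (au.1.1) = (s J a)⁻¹ := by
      refine eq_inv_of_mul_eq_one_left ?_
      rw [← hsmul J _ au.1.2 a ha, show au.1.1 * a = 1 from inv_mul_cancel₀ ha0, hs1]
    rw [h2, inv_inv, mul_comm (s J a)] at h1
    exact mul_left_cancel₀ (hcne J') h1
  -- the field automorphism
  have hsinj : Function.Injective (s J₀) := by
    intro a b e
    simp only [hs, dif_pos (h.full a), dif_pos (h.full b)] at e
    exact congrArg Subtype.val (hinj J₀ (Subtype.ext ((div_left_inj' (hcne J₀)).1 e)))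
  set σ : K ≃+* K := RingEquiv.ofBijective
    ({ toFun := s J₀, map_one' := hs1 J₀,
       map_mul' := fun a b => hsmul J₀ a (h.full a) b (h.full b),
       map_zero' := by
         simp only [hs, dif_pos (zero_mem (dom X J₀))]
         rw [show (⟨0, _⟩ : dom X J₀) = 0 from rfl, h0]
         simp
       map_add' := fun a b => hsadd J₀ a (h.full a) b (h.full b) } : K →+* K)
    (Finite.injective_iff_bijective.1 hsinj) with hσ
  have hagree : ∀ J, ∀ a ∈ dom X J, s J a = σ a := by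
    intro J
    induction h.linked J with
    | refl => exact fun a _ => rfl
    | down he _ ih =>
      intro a ha
      obtain ⟨ha', e⟩ := hlink _ _ he a ha
      rw [← e]; exact ih a ha'
    | up he hfull _ ih =>
      intro a _
      obtain ⟨-, e⟩ := hlink _ _ he a (hfull a)
      rw [e]; exact ih a (hfull a)
  have hfa : ∀ J a, f J a = (c J).1 * domMap h σ J a := fun J a => Subtype.ext (by
    rw [hs_eq, hagree J _ a.2]; rfl)
  refine ⟨c, σ, fun J a => ⟨by rw [hf, hfa], ?_⟩⟩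
  rw [hg]
  congr 1
  by_cases ha : a = 0
  · subst ha
    have hg0 : g J 0 = 0 := by
      have h1 := hg J 0
      rw [yg_zero, map_one] at h1
      have h2 : yg X J (g J 0) = yg X J 0 := by rw [← h1, yg_zero]
      have h3 := congrArg Subtype.val h2
      rw [coe_yg, coe_yg] at h3
      have h4 : H52.Twist.xp Fl Fl.sp J (fun j => -vec X J (g J 0).1 j) =
          H52.Twist.xp Fl Fl.sp J (fun j => -vec X J ((0 : dom X J) : K) j) := by
        rw [← X.nOne_conj_xp_n, h3, X.nOne_conj_xp_n]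
      have h5 := X.xp_p_injective h4 _ (base_mem X J)
      rw [vec_base, vec_base, neg_inj] at h5
      exact Subtype.ext h5
    rw [hg0]
    apply Subtype.ext
    simp [domMap]
  have hb : -a⁻¹ ≠ 0 := neg_ne_zero.2 (inv_ne_zero ha)
  have h1 := hgf J (-a⁻¹) hb
  rw [show -(-a⁻¹)⁻¹ = a by rw [inv_neg, inv_inv, neg_neg], hfa] at h1
  rw [h1]
  apply Subtype.ext
  simp [domMap, Units.val_inv_eq_inv_val, mul_comm, inv_neg]

end EA
end H13
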