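import Cfsg.Agent.H13.EA.TwFrame
import Cfsg.Agent.H13.EA.Norm
import Cfsg.Agent.H52.TwistPerfect

/-!
Parameters of the fundamental root subgroups of a twisted group.
-/

set_option autoImplicit false
set_option linter.unusedSectionVars false

open Cfsg.Lie
open H53.RootGroupSys

namespace H13
namespace EA

section Abstract

variable {G : Type*} [Group G] {ι : Type*} {A : Frame G ι}

/-- Only the identity of a simple root subgroup normalises the opposite one. -/
theorem Frame.not_norm (hA : A.Hyp) (i : ι) {x : G} (hx : x ∈ A.X i) (hx1 : x ≠ 1) :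
    ¬ ∀ z ∈ A.Xn i, x * z * x⁻¹ ∈ A.Xn i := by
  intro hall
  obtain ⟨y, hy, b, hb, rfl⟩ := hA.rankone i x hx hx1
  refine hA.Xn_ne i (eq_bot_iff.2 fun z hz => ?_)
  have h2 : A.s i * (x * z * x⁻¹) * (A.s i)⁻¹ ∈ A.X i := by
    rw [← hA.s_conj i]; exact ⟨_, hall z hz, rfl⟩
  have h : b * A.s i * x * z * (b * A.s i * x)⁻¹ ∈ A.P.B ⊓ A.V := by
    refine Subgroup.mem_inf.2 ⟨?_, hA.Xn_le i (mul_mem (mul_mem hy hz) (inv_mem hy))⟩
    rw [show b * A.s i * x * z * (b * A.s i * x)⁻¹ =
      b * (A.s i * (x * z * x⁻¹) * (A.s i)⁻¹) * b⁻¹ by group]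
    exact mul_mem (mul_mem hb (hA.U_le (hA.X_le i h2))) (inv_mem hb)
  rw [hA.B_V, Subgroup.mem_bot, conj_eq_one_iff] at h
  exact h

/-- The rule `σ (t² u) = (σ t)² σ u` on a finite subfield makes an additive map multiplicative. -/
theorem subfield_map_mul_of_sq {F : Type*} [Field F] [Finite F] (L : Subfield F) (σ : F → F)
    (hadd : ∀ a ∈ L, ∀ b ∈ L, σ (a + b) = σ a + σ b) (hone : σ 1 = 1)
    (hsq : ∀ t ∈ L, ∀ u ∈ L, t ≠ 0 → σ (t ^ 2 * u) = σ t ^ 2 * σ u)
    {a b : F} (ha : a ∈ L) (hb : b ∈ L) : σ (a * b) = σ a * σ b := by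
  have h0 : σ 0 = 0 := by
    have := hadd 0 (zero_mem L) 0 (zero_mem L)
    rw [add_zero] at this
    linear_combination -this
  have hsq' : ∀ t ∈ L, ∀ u ∈ L, σ (t ^ 2 * u) = σ t ^ 2 * σ u := by
    intro t ht u hu
    by_cases ht0 : t = 0
    · subst ht0; simp [h0]
    · exact hsq t ht u hu ht0
  have hs : ∀ t ∈ L, σ (t ^ 2) = σ t ^ 2 := fun t ht => by
    have := hsq' t ht 1 (one_mem L); rwa [mul_one, hone, mul_one] at this
  by_cases h2 : (2 : F) = 0
  · obtain ⟨⟨c, hc⟩, he⟩ : ∃ c : L, c ^ 2 = ⟨a, ha⟩ := by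
      have : CharP L 2 := CharTwo.of_one_ne_zero_of_two_eq_zero one_ne_zero (by
        apply Subtype.ext
        show (2 : F) = 0
        exact h2)
      obtain ⟨c, hc⟩ := surjective_frobenius L 2 ⟨a, ha⟩
      exact ⟨c, hc⟩
    have he' : c ^ 2 = a := congrArg Subtype.val he
    subst he'
    rw [hsq' c hc b hb, hs c hc]
  · have h1 := hs (a + b) (add_mem ha hb)
    have hab := mul_mem ha hb
    have ha2 : a ^ 2 ∈ L := pow_mem ha 2
    have hb2 : b ^ 2 ∈ L := pow_mem hb 2
    rw [show (a + b) ^ 2 = a ^ 2 + b ^ 2 + (a * b + a * b) by ring,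
      hadd _ (add_mem ha2 hb2) _ (add_mem hab hab), hadd _ ha2 _ hb2, hadd _ hab _ hab,
      hs a ha, hs b hb, hadd a ha b hb] at h1
    apply mul_left_cancel₀ h2
    linear_combination h1

end Abstract

variable {D D' : ChevalleyDatum} {Fl : H52.Fold D D'} {T : H52.Tables} {K : Type*} [Field K]
  (X : H52.Twist Fl T K)

/-- A fundamental root in the orbit of a fundamental class. -/
noncomputable def base (J : Fin D'.rank) : Fin D.rank := (Fl.orb J).head (X.fval.orb_ne J)

theorem base_mem (J : Fin D'.rank) : base X J ∈ Fl.orb J := List.head_mem _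

open Classical in
/-- The number of steps from the base point. -/
noncomputable def pw (J : Fin D'.rank) (j : Fin D.rank) : ℕ :=
  if h : ∃ k, (Fl.τi^[k]) (base X J) = j then Nat.find h else 0

theorem pw_spec {J : Fin D'.rank} {j : Fin D.rank} (hj : j ∈ Fl.orb J) :
    (Fl.τi^[pw X J j]) (base X J) = j := by
  classical
  have h : ∃ k, (Fl.τi^[k]) (base X J) = j := by
    obtain ⟨k, hk⟩ := X.fval.orb_cycle J _ (base_mem X J) j hj
    exact ⟨k.val, hk⟩
  rw [pw, dif_pos h]
  exact Nat.find_spec h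

theorem pw_base (J : Fin D'.rank) : pw X J (base X J) = 0 := by
  classical
  rw [pw, dif_pos ⟨0, rfl⟩, Nat.find_eq_zero]
  rfl

/-- The powers of the twisting field automorphism. -/
def fk (k : ℕ) : K ≃+* K := X.f ^ k

theorem fk_apply (k : ℕ) (a : K) : fk X k a = (X.f^[k]) a := by
  induction k generalizing a with
  | zero => rfl
  | succ k ih =>
    rw [fk, pow_succ, Function.iterate_succ_apply, RingAut.mul_apply]
    exact ih _

/-- The vector of parameters from the base parameter. -/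
noncomputable def vec (J : Fin D'.rank) (a : K) : Fin D.rank → K := fun j => fk X (pw X J j) a

theorem vec_base (J : Fin D'.rank) (a : K) : vec X J a (base X J) = a := by
  rw [vec, pw_base, fk_apply]; rfl

/-- The field of parameters of a fundamental class. -/
noncomputable def dom (J : Fin D'.rank) : Subfield K where
  carrier := {a | X.Equi J (vec X J a)}
  zero_mem' := fun j _ => by simp [vec]
  one_mem' := fun j _ => by simp [vec]
  add_mem' := fun {a b} ha hb j hj => by
    have h1 := ha j hj; have h2 := hb j hj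
    simp only [vec, map_add] at h1 h2 ⊢
    rw [h1, h2]
  neg_mem' := fun {a} ha j hj => by
    have h1 := ha j hj
    simp only [vec, map_neg] at h1 ⊢
    rw [h1]
  mul_mem' := fun {a b} ha hb j hj => by
    have h1 := ha j hj; have h2 := hb j hj
    simp only [vec, map_mul] at h1 h2 ⊢
    rw [h1, h2]
  inv_mem' := fun a ha j hj => by
    have h1 := ha j hj
    simp only [vec, map_inv₀] at h1 ⊢
    rw [h1]

theorem mem_dom {J : Fin D'.rank} {a : K} : a ∈ dom X J ↔ X.Equi J (vec X J a) := Iff.rfl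

theorem equi_eq_vec {J : Fin D'.rank} {t : Fin D.rank → K} (ht : X.Equi J t) :
    ∀ j ∈ Fl.orb J, t j = vec X J (t (base X J)) j := fun j hj => by
  have h := (X.equi_iterate ht (base_mem X J) (pw X J j)).2
  rw [pw_spec X hj] at h
  rw [h, vec, fk_apply]

theorem base_mem_dom {J : Fin D'.rank} {t : Fin D.rank → K} (ht : X.Equi J t) :
    t (base X J) ∈ dom X J := fun j hj => by
  rw [← equi_eq_vec X ht _ (X.fval.orb_stable J j hj), ← equi_eq_vec X ht j hj]
  exact ht j hj

/-- The element of a fundamental root subgroup of given parameter. -/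
noncomputable def xg (J : Fin D'.rank) (a : dom X J) : ↥X.grp :=
  ⟨H52.Twist.xp Fl Fl.sp J (vec X J a.1), X.E_le_grp _ (X.xp_p_mem a.2)⟩

/-- The element of an opposite fundamental root subgroup of given parameter. -/
noncomputable def yg (J : Fin D'.rank) (a : dom X J) : ↥X.grp :=
  ⟨H52.Twist.xp Fl Fl.sn J (vec X J a.1), X.E_le_grp _ (X.xp_n_mem a.2)⟩

theorem coe_xg (J : Fin D'.rank) (a : dom X J) :
    (xg X J a : GL D.Idx K) = H52.Twist.xp Fl Fl.sp J (vec X J a.1) := rfl

theorem coe_yg (J : Fin D'.rank) (a : dom X J) :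
    (yg X J a : GL D.Idx K) = H52.Twist.xp Fl Fl.sn J (vec X J a.1) := rfl

theorem xg_mem (J : Fin D'.rank) (a : dom X J) : xg X J a ∈ (tframe X).X J := X.xp_p_mem a.2

theorem yg_mem (J : Fin D'.rank) (a : dom X J) : yg X J a ∈ (tframe X).Xn J := X.xp_n_mem a.2

theorem exists_xg {J : Fin D'.rank} {g : ↥X.grp} (hg : g ∈ (tframe X).X J) :
    ∃ a : dom X J, g = xg X J a := by
  obtain ⟨t, ht, he⟩ := X.mem_E_ap.1 (show (g : GL D.Idx K) ∈ X.E (Fl.ap J) from hg)
  exact ⟨⟨_, base_mem_dom X ht⟩, Subtype.ext (he.trans (X.xp_congr (equi_eq_vec X ht)))⟩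

theorem exists_yg {J : Fin D'.rank} {g : ↥X.grp} (hg : g ∈ (tframe X).Xn J) :
    ∃ a : dom X J, g = yg X J a := by
  obtain ⟨t, ht, he⟩ := X.mem_E_an.1 (show (g : GL D.Idx K) ∈ X.E (Fl.an J) from hg)
  exact ⟨⟨_, base_mem_dom X ht⟩, Subtype.ext (he.trans (X.xp_congr (equi_eq_vec X ht)))⟩

theorem vec_add (J : Fin D'.rank) (a b : K) : vec X J (a + b) = vec X J a + vec X J b := by
  funext j; simp [vec]

theorem xg_add (J : Fin D'.rank) (a b : dom X J) : xg X J a * xg X J b = xg X J (a + b) := by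
  apply Subtype.ext
  rw [Subgroup.coe_mul, coe_xg, coe_xg, coe_xg,
    X.xp_mul _ (fun j u => H52.Twist.rt_mem_pairGrp_p j u), Subfield.coe_add, vec_add]

theorem yg_add (J : Fin D'.rank) (a b : dom X J) : yg X J a * yg X J b = yg X J (a + b) := by
  apply Subtype.ext
  rw [Subgroup.coe_mul, coe_yg, coe_yg, coe_yg,
    X.xp_mul _ (fun j u => H52.Twist.rt_mem_pairGrp_n j u), Subfield.coe_add, vec_add]

theorem xg_zero (J : Fin D'.rank) : xg X J 0 = 1 := by
  apply Subtype.ext
  rw [coe_xg, OneMemClass.coe_one, ← X.xp_zero Fl.sp J]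
  exact X.xp_congr fun j _ => by simp [vec]

theorem yg_zero (J : Fin D'.rank) : yg X J 0 = 1 := by
  apply Subtype.ext
  rw [coe_yg, OneMemClass.coe_one, ← X.xp_zero Fl.sn J]
  exact X.xp_congr fun j _ => by simp [vec]

theorem xg_inj {J : Fin D'.rank} : Function.Injective (xg X J) := by
  intro a b h
  have h' := X.xp_p_injective (congrArg Subtype.val h) _ (base_mem X J)
  rw [vec_base, vec_base] at h'
  exact Subtype.ext h'

theorem xg_inv (J : Fin D'.rank) (a : dom X J) : (xg X J a)⁻¹ = xg X J (-a) :=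
  inv_eq_of_mul_eq_one_right (by rw [xg_add, add_neg_cancel, xg_zero])

theorem yg_inv (J : Fin D'.rank) (a : dom X J) : (yg X J a)⁻¹ = yg X J (-a) :=
  inv_eq_of_mul_eq_one_right (by rw [yg_add, add_neg_cancel, yg_zero])

/-- The Weyl element of given parameter. -/
noncomputable def ng (J : Fin D'.rank) (a : dom X J) : ↥X.grp :=
  xg X J a * yg X J (-a⁻¹) * xg X J a

theorem coe_ng (J : Fin D'.rank) (a : dom X J) :
    (ng X J a : GL D.Idx K) = H52.Twist.nJ Fl J (vec X J a.1) := by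
  rw [X.nJ_eq, ng, Subgroup.coe_mul, Subgroup.coe_mul, coe_xg, coe_yg]
  congr 2
  exact X.xp_congr fun j _ => by simp [vec]

theorem ng_neg (J : Fin D'.rank) (a : dom X J) : ng X J (-a) = (ng X J a)⁻¹ := by
  simp [ng, xg_inv, yg_inv, mul_assoc, inv_neg]

theorem dom_ne_zero {J : Fin D'.rank} {a : dom X J} (ha : a ≠ 0) (j : Fin D.rank) :
    vec X J a.1 j ≠ 0 := by
  simpa [vec] using fun e => ha (Subtype.ext e)

/-- The torus parameters of a class. -/
noncomputable def rvec (J : Fin D'.rank) (a : (dom X J)ˣ) : Fin D.rank → Kˣ :=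
  H52.Twist.restr Fl J fun j => Units.mk0 (vec X J a.1.1 j) (dom_ne_zero X a.ne_zero j)

theorem rvec_mem (J : Fin D'.rank) (a : (dom X J)ˣ) : rvec X J a ∈ X.cFix :=
  X.restr_mem_cFix J fun i hi => a.1.2 i hi

theorem coe_ng_mul (J : Fin D'.rank) (a : (dom X J)ˣ) :
    ((ng X J a.1 * ng X J (-1) : ↥X.grp) : GL D.Idx K) = H52.torus D (rvec X J a) := by
  rw [rvec, Subgroup.coe_mul, coe_ng, coe_ng, X.torus_restr, X.hProd_eq]
  congr 2
  funext j
  simp [vec]

/-- The action of the torus element of a class on another class at the base point. -/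
noncomputable def chi (J J' : Fin D'.rank) (a : (dom X J)ˣ) : K :=
  ((∏ k : Fin D.rank, rvec X J a k ^ D.cartan k.val (Fl.sp (base X J')).val : Kˣ) : K)

theorem chi_conj (J J' : Fin D'.rank) (a : (dom X J)ˣ) (u : dom X J') :
    ∃ w : dom X J', w.1 = chi X J J' a * u.1 ∧
      ng X J a.1 * ng X J (-1) * xg X J' u * (ng X J a.1 * ng X J (-1))⁻¹ = xg X J' w := by
  set h := ng X J a.1 * ng X J (-1) with hh
  have hH : h ∈ X.sys.H := by
    show (h : GL D.Idx K) ∈ X.torusT
    rw [hh, coe_ng_mul]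
    exact X.torus_mem_torusT (rvec_mem X J a)
  have hmem : h * xg X J' u * h⁻¹ ∈ (tframe X).X J' := by
    show _ ∈ X.sys.U (X.sys.a J')
    rw [← X.axioms'.conj_H h hH (X.sys.a J')]
    exact ⟨_, xg_mem X J' u, rfl⟩
  obtain ⟨w, hw⟩ := exists_xg X hmem
  refine ⟨w, ?_, hw⟩
  have h1 := congrArg Subtype.val hw
  rw [Subgroup.coe_mul, Subgroup.coe_mul, Subgroup.coe_inv, hh, coe_ng_mul, coe_xg, coe_xg,
    X.torus_conj_xp] at h1
  have h2 := X.xp_p_injective h1 _ (base_mem X J')
  rw [vec_base, vec_base] at h2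
  exact h2.symm

theorem chi_self (J : Fin D'.rank) (a : (dom X J)ˣ)
    (horth : ∀ i ∈ Fl.orb J, i ≠ base X J → D.cartan i.val (D.simple (base X J).val) = 0) :
    chi X J J a = a.1.1 ^ 2 := by
  rw [chi, Finset.prod_eq_single (base X J)]
  · rw [rvec, H52.Twist.restr, if_pos (base_mem X J), X.sp_val,
      (X.chk.simple_facts (base X J).isLt).2.2.1, Units.val_zpow_eq_zpow_val, Units.val_mk0,
      vec_base]
    exact zpow_natCast _ 2
  · intro i _ hi
    by_cases h : i ∈ Fl.orb J
    · rw [X.sp_val, horth i h hi, zpow_zero]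
    · simp [rvec, H52.Twist.restr, h]
  · exact fun h => absurd (Finset.mem_univ _) h

/-- An edge of the folded diagram with trivial folding at the end. -/
def Edge (J J' : Fin D'.rank) : Prop :=
  ∀ i ∈ Fl.orb J, D.cartan i.val (D.simple (base X J').val) = if i = base X J then -1 else 0

theorem chi_edge {J J' : Fin D'.rank} (h : Edge X J J') (a : (dom X J)ˣ) :
    chi X J J' a = (a.1.1)⁻¹ := by
  rw [chi, Finset.prod_eq_single (base X J)]
  · rw [rvec, H52.Twist.restr, if_pos (base_mem X J), X.sp_val, h _ (base_mem X J), if_pos rfl,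
      zpow_neg_one, Units.val_inv_eq_inv_val, Units.val_mk0, vec_base]
  · intro i _ hi
    by_cases hm : i ∈ Fl.orb J
    · rw [X.sp_val, h i hm, if_neg hi, zpow_zero]
    · simp [rvec, H52.Twist.restr, hm]
  · exact fun h => absurd (Finset.mem_univ _) h

theorem ng_conj_X (J : Fin D'.rank) {a : dom X J} (ha : a ≠ 0) :
    ((tframe X).X J).map (MulAut.conj (ng X J a)).toMonoidHom = (tframe X).Xn J := by
  have h1 := coe_ng_mul X J (Units.mk0 a ha)
  have hH : ng X J a * ng X J (-1) ∈ X.sys.H := by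
    show ((ng X J a * ng X J (-1) : ↥X.grp) : GL D.Idx K) ∈ X.torusT
    rw [Units.val_mk0] at h1
    rw [h1]
    exact X.torus_mem_torusT (rvec_mem X J _)
  have hn : ng X J a = ng X J a * ng X J (-1) * X.sys.n J := by
    have : ng X J 1 = X.sys.n J := Subtype.ext (by
      rw [coe_ng]
      show H52.Twist.nJ Fl J _ = H52.Twist.nOne Fl K J
      rw [H52.Twist.nOne]
      congr 1
      funext j
      simp [vec])
    rw [ng_neg, this, inv_mul_cancel_right]
  rw [hn]
  show (X.sys.U (X.sys.a J)).map _ = X.sys.U (X.sys.neg (X.sys.a J))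
  rw [← Frame.map_conj_conj, X.axioms'.conj_n, X.axioms'.sigma_a, X.axioms'.conj_H _ hH]

/-- The opposite parameter in a Weyl element is determined. -/
theorem tweyl_unique (J : Fin D'.rank) {d A : dom X J}
    (h : ∀ u : dom X J, xg X J d * yg X J A * xg X J d * xg X J u *
      (xg X J d * yg X J A * xg X J d)⁻¹ ∈ (tframe X).Xn J) :
    A ≠ 0 ∧ d = -A⁻¹ := by
  have hA := tframe_hyp X
  have hXX : ∀ g ∈ (tframe X).X J, g ∈ (tframe X).Xn J → g = 1 := by
    intro g h1 h2
    have : g ∈ (tframe X).U ⊓ (tframe X).V :=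
      Subgroup.mem_inf.2 ⟨hA.X_le J h1, hA.Xn_le J h2⟩
    rwa [Frame.inf_V_U hA, Subgroup.mem_bot] at this
  have hcomm : ∀ a b : dom X J, xg X J a * xg X J b = xg X J b * xg X J a := fun a b => by
    rw [xg_add, xg_add, add_comm]
  have hA0 : A ≠ 0 := by
    intro hA0
    have h1 := h 1
    rw [hA0, yg_zero, mul_one, xg_add, hcomm, mul_inv_cancel_right] at h1
    exact one_ne_zero (xg_inj X ((hXX _ (xg_mem X J 1) h1).trans (xg_zero X J).symm))
  refine ⟨hA0, ?_⟩
  by_contra hd
  set c : dom X J := d + A⁻¹ with hc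
  have hc0 : c ≠ 0 := fun e => hd (eq_neg_of_add_eq_zero_left e)
  set T₀ : dom X J := -A⁻¹ with hT
  have hT0 : T₀ ≠ 0 := neg_ne_zero.2 (inv_ne_zero hA0)
  have hy : xg X J d * yg X J A * xg X J d = xg X J c * ng X J T₀ * xg X J c := by
    have e1 : xg X J d = xg X J c * xg X J T₀ := by
      rw [xg_add, hc, hT, add_neg_cancel_right]
    have e2 : -(T₀⁻¹) = A := by rw [hT, inv_neg, inv_inv, neg_neg]
    rw [ng, e2]
    conv_lhs => arg 2; rw [e1, hcomm]
    rw [e1]
    simp only [mul_assoc]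
  refine Frame.not_norm hA J (xg_mem X J c) (fun e => hc0 (xg_inj X (e.trans (xg_zero X J).symm)))
    fun z hz => ?_
  rw [← ng_conj_X X J hT0] at hz
  obtain ⟨g, hg, rfl⟩ := hz
  obtain ⟨u, rfl⟩ := exists_xg X hg
  have h1 := h u
  rw [hy] at h1
  convert h1 using 1
  simp only [MulEquiv.coe_toMonoidHom, MulAut.conj_apply]
  have : xg X J c * xg X J u = xg X J u * xg X J c := hcomm c u
  calc xg X J c * (ng X J T₀ * xg X J u * (ng X J T₀)⁻¹) * (xg X J c)⁻¹
      = xg X J c * ng X J T₀ * (xg X J u * xg X J c) * (xg X J c)⁻¹ * (ng X J T₀)⁻¹ *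
          (xg X J c)⁻¹ := by group
    _ = _ := by rw [← this]; group

end EA
end H13
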